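import Mathlib.RingTheory.Artinian.Module
import Mathlib.RingTheory.Idempotents
import Mathlib.RingTheory.Ideal.GoingUp
import Mathlib.RingTheory.LocalRing.ResidueField.Basic
import Mathlib.RingTheory.Spectrum.Maximal.Localization

/-! Idempotents of finite algebras over local rings. -/

namespace Groth.Agent.Hensel.Idem

open IsLocalRing

universe u

variable {A : Type*} [CommRing A] {B : Type u} [CommRing B] [Algebra A B]

theorem mem_jacobson_of_forall {R : Type*} [CommRing R] {x : R}
    (h : ∀ M : Ideal R, M.IsMaximal → x ∈ M) : x ∈ Ideal.jacobson (⊥ : Ideal R) :=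
  Submodule.mem_sInf.mpr fun M hM => h M hM.2

theorem mem_of_mem_jacobson {R : Type*} [CommRing R] {x : R}
    (h : x ∈ Ideal.jacobson (⊥ : Ideal R)) (M : Ideal R) [hM : M.IsMaximal] : x ∈ M :=
  Submodule.mem_sInf.mp h M ⟨bot_le, hM⟩

theorem map_le_jacobson [Algebra.IsIntegral A B] {I : Ideal A} (hI : I ≤ Ideal.jacobson ⊥) :
    I.map (algebraMap A B) ≤ Ideal.jacobson ⊥ := fun _ hx =>
  mem_jacobson_of_forall fun M hM => by
    have := Ideal.isMaximal_comap_of_isIntegral_of_isMaximal (R := A) M
    exact (Ideal.map_le_iff_le_comap.mpr fun a ha => mem_of_mem_jacobson (hI ha) (M.comap (algebraMap A B))) hx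

theorem maximalIdeal_le_jacobson (A : Type*) [CommRing A] [IsLocalRing A] :
    maximalIdeal A ≤ Ideal.jacobson ⊥ := fun _ hx =>
  mem_jacobson_of_forall fun M hM => (eq_maximalIdeal hM).symm ▸ hx

/-- Idempotents congruent modulo the Jacobson radical are equal. -/
theorem eq_of_sub_mem {R : Type*} [CommRing R] {e f : R} (he : IsIdempotentElem e) (hf : IsIdempotentElem f)
    (h : e - f ∈ Ideal.jacobson (⊥ : Ideal R)) : e = f := by
  have hu : IsUnit (1 - (e - f) * (e - f)) := by
    by_contra hnu
    obtain ⟨M, hM, hxM⟩ := exists_max_ideal_of_mem_nonunits hnu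
    exact hM.ne_top ((Ideal.eq_top_iff_one _).mpr (by
      simpa using add_mem hxM (M.mul_mem_left (e - f) (mem_of_mem_jacobson h M))))
  have : (1 - (e - f) * (e - f)) * (e - f) = 0 := by
    linear_combination (-e + 3 * f - 1) * he.eq + (f - 3 * e + 1) * hf.eq
  exact sub_eq_zero.mp (hu.mul_right_eq_zero.mp this)

theorem eq_zero_of_forall_mem {R : Type*} [CommRing R] {e : R} (he : IsIdempotentElem e)
    (h : ∀ M : Ideal R, M.IsMaximal → e ∈ M) : e = 0 :=
  eq_of_sub_mem he .zero (by simpa using mem_jacobson_of_forall h)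

theorem mem_or_one_sub_mem {R : Type*} [CommRing R] {e : R} (he : IsIdempotentElem e) (M : Ideal R)
    [M.IsPrime] : e ∈ M ∨ 1 - e ∈ M :=
  Ideal.IsPrime.mem_or_mem ‹_› (by rw [mul_sub, mul_one, he.eq, sub_self]; exact zero_mem _)

/-- A semilocal ring with idempotents separating the maximal ideals is a product of local rings. -/
theorem exists_equiv_pi {R : Type u} [CommRing R] [Finite (MaximalSpectrum R)]
    (h : ∀ M : MaximalSpectrum R, ∃ e : R, IsIdempotentElem e ∧
      ∀ N : MaximalSpectrum R, e ∉ N.asIdeal ↔ M = N) :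
    ∃ (ι : Type u) (_ : Fintype ι) (C : ι → Type u) (_ : ∀ i, CommRing (C i)),
      (∀ i, IsLocalRing (C i)) ∧ Nonempty (R ≃+* (∀ i, C i)) := by
  classical
  let _ := Fintype.ofFinite (MaximalSpectrum R)
  choose e he hiff using h
  have hortho : Pairwise fun M N => e M * e N = 0 := by
    intro M N hMN
    refine eq_zero_of_forall_mem ((he M).mul (he N)) fun P hP => ?_
    rcases eq_or_ne M ⟨P, hP⟩ with rfl | hMP
    · exact Ideal.mul_mem_left P _ (of_not_not fun h => hMN ((hiff N ⟨P, hP⟩).mp h).symm)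
    · exact Ideal.mul_mem_right _ _ (of_not_not fun h => hMP ((hiff M ⟨P, hP⟩).mp h))
  have hs : IsIdempotentElem (∑ M, e M) := OrthogonalIdempotents.isIdempotentElem_sum ⟨he, hortho⟩
  have hc : CompleteOrthogonalIdempotents e := by
    refine ⟨⟨he, hortho⟩, (sub_eq_zero.mp (eq_zero_of_forall_mem hs.one_sub fun N hN => ?_)).symm⟩
    by_contra hN'
    have h1 : (1 - ∑ M, e M) * e ⟨N, hN⟩ = 0 := by
      rw [sub_mul, one_mul, Finset.sum_mul, Finset.sum_eq_single ⟨N, hN⟩ (fun M _ hM => hortho hM) (by simp),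
        (he _).eq, sub_self]
    rcases hN.isPrime.mem_or_mem (h1 ▸ N.zero_mem) with h | h
    · exact hN' h
    · exact (hiff ⟨N, hN⟩ ⟨N, hN⟩).mpr rfl h
  refine ⟨MaximalSpectrum R, ‹_›, fun M => R ⧸ Ideal.span ({1 - e M} : Set R), inferInstance, fun M => ?_,
    ⟨RingEquiv.ofBijective _ (CompleteOrthogonalIdempotents.bijective_pi' (e := fun M => 1 - e M)
      (by simpa using hc))⟩⟩
  have hmem : 1 - e M ∈ M.asIdeal :=
    (mem_or_one_sub_mem (he M) M.asIdeal).resolve_left ((hiff M M).mpr rfl)
  set π := Ideal.Quotient.mk (Ideal.span ({1 - e M} : Set R))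
  refine IsLocalRing.of_unique_max_ideal ⟨M.asIdeal.map π, ?_, ?_⟩
  · exact Ideal.IsMaximal.map_of_surjective_of_ker_le Ideal.Quotient.mk_surjective
      (by rw [Ideal.mk_ker, Ideal.span_singleton_le_iff_mem]; exact hmem)
  · intro I hI
    have hcm := Ideal.comap_isMaximal_of_surjective π Ideal.Quotient.mk_surjective (K := I)
    have heq : M = ⟨I.comap π, hcm⟩ := (hiff M ⟨I.comap π, hcm⟩).mp fun h => hI.ne_top (by
      rw [Ideal.mem_comap] at h
      have : π (e M) = 1 := by
        rw [← map_one π, Ideal.Quotient.eq, ← neg_sub 1 (e M)]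
        exact neg_mem (Ideal.mem_span_singleton_self (1 - e M))
      rw [this] at h
      exact (Ideal.eq_top_iff_one _).mpr h)
    exact ((congrArg (Ideal.map π) (congrArg MaximalSpectrum.asIdeal heq)).trans
      (Ideal.map_comap_of_surjective _ Ideal.Quotient.mk_surjective I)).symm

/-- An Artinian ring has idempotents separating its maximal ideals. -/
theorem exists_idempotent_of_artinian (R : Type*) [CommRing R] [IsArtinianRing R] (M : MaximalSpectrum R) :
    ∃ e : R, IsIdempotentElem e ∧ ∀ N : MaximalSpectrum R, e ∉ N.asIdeal ↔ M = N := by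
  classical
  let f : R →+* ∀ I : MaximalSpectrum R, R ⧸ I.asIdeal :=
    (IsArtinianRing.quotNilradicalEquivPi R).toRingEquiv.toRingHom.comp (Ideal.Quotient.mk (nilradical R))
  have hf : ∀ x N, f x N = Ideal.Quotient.mk N.asIdeal x := fun x N => rfl
  have hs : Function.Surjective f :=
    (IsArtinianRing.quotNilradicalEquivPi R).surjective.comp Ideal.Quotient.mk_surjective
  have hk : ∀ x ∈ RingHom.ker f, IsNilpotent x := by
    intro x hx
    have : Ideal.Quotient.mk (nilradical R) x = 0 :=
      (IsArtinianRing.quotNilradicalEquivPi R).injective (by rw [map_zero]; exact hx)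
    exact Ideal.Quotient.eq_zero_iff_mem.mp this
  obtain ⟨e, he, hfe⟩ := exists_isIdempotentElem_eq_of_ker_isNilpotent f hk (Pi.single M 1) (hs _) (by
    ext N
    rcases eq_or_ne M N with rfl | h
    · simp
    · simp [Pi.single_eq_of_ne h.symm])
  refine ⟨e, he, fun N => ?_⟩
  rw [← Ideal.Quotient.eq_zero_iff_mem, ← hf, hfe]
  have : Nontrivial (R ⧸ N.asIdeal) := Ideal.Quotient.nontrivial_iff.mpr N.isMaximal.ne_top
  rcases eq_or_ne M N with rfl | h
  · simp
  · simp [Pi.single_eq_of_ne h.symm, h]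

variable [IsLocalRing A] [Module.Finite A B]

local notation "mB" => Ideal.map (algebraMap A B) (maximalIdeal A)

instance isArtinianRing_quotient : IsArtinianRing (B ⧸ mB) := by
  let _ : Algebra (A ⧸ maximalIdeal A) (B ⧸ mB) :=
    (Ideal.quotientMap mB (algebraMap A B) Ideal.le_comap_map).toAlgebra
  have : IsScalarTower A (A ⧸ maximalIdeal A) (B ⧸ mB) := IsScalarTower.of_algebraMap_eq' rfl
  have : Module.Finite (A ⧸ maximalIdeal A) (B ⧸ mB) := Module.Finite.of_restrictScalars_finite A _ _
  let _ := Ideal.Quotient.field (maximalIdeal A)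
  exact IsArtinianRing.of_finite (A ⧸ maximalIdeal A) _

/-- If idempotents lift from the closed fibre, a finite algebra is a product of local rings. -/
theorem exists_equiv_pi_of_surjOn
    (h : Set.SurjOn (Ideal.Quotient.mk mB) {e | IsIdempotentElem e} {e | IsIdempotentElem e}) :
    ∃ (ι : Type u) (_ : Fintype ι) (C : ι → Type u) (_ : ∀ i, CommRing (C i)),
      (∀ i, IsLocalRing (C i)) ∧ Nonempty (B ≃+* (∀ i, C i)) := by
  have hle : ∀ M : MaximalSpectrum B, mB ≤ M.asIdeal := fun M x hx =>
    have := M.isMaximal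
    mem_of_mem_jacobson (map_le_jacobson (maximalIdeal_le_jacobson A) hx) M.asIdeal
  let g : MaximalSpectrum B → MaximalSpectrum (B ⧸ mB) := fun M =>
    ⟨M.asIdeal.map (Ideal.Quotient.mk mB), by
      have := M.isMaximal
      exact Ideal.IsMaximal.map_of_surjective_of_ker_le Ideal.Quotient.mk_surjective
        (by rw [Ideal.mk_ker]; exact hle M)⟩
  have hg : ∀ M, (g M).asIdeal.comap (Ideal.Quotient.mk mB) = M.asIdeal := fun M => by
    simp only [g, Ideal.comap_map_of_surjective _ Ideal.Quotient.mk_surjective, ← RingHom.ker_eq_comap_bot,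
      Ideal.mk_ker, sup_eq_left]
    exact hle M
  have ginj : Function.Injective g := fun M N hMN => MaximalSpectrum.ext (by rw [← hg M, hMN, hg N])
  have : Finite (MaximalSpectrum B) := Finite.of_injective g ginj
  refine exists_equiv_pi fun M => ?_
  obtain ⟨ē, hē, hiff⟩ := exists_idempotent_of_artinian (B ⧸ mB) (g M)
  obtain ⟨e, he, rfl⟩ := h hē
  refine ⟨e, he, fun N => ?_⟩
  rw [← hg N, Ideal.mem_comap, hiff, ginj.eq_iff]

/-- Idempotents of the closed fibre of a product of local rings lift. -/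
theorem surjOn_of_equiv_pi {ι : Type*} [Fintype ι] {C : ι → Type*} [∀ i, CommRing (C i)]
    [∀ i, IsLocalRing (C i)] (φ : B ≃+* (∀ i, C i)) :
    Set.SurjOn (Ideal.Quotient.mk mB) {e | IsIdempotentElem e} {e | IsIdempotentElem e} := by
  classical
  intro ē hē
  obtain ⟨b, rfl⟩ := Ideal.Quotient.mk_surjective ē
  let y : ∀ i, C i := fun i => if IsUnit (φ b i) then 1 else 0
  have hy : IsIdempotentElem y := funext fun i => by by_cases h : IsUnit (φ b i) <;> simp [y, h]
  refine ⟨φ.symm y, hy.map φ.symm, eq_of_sub_mem ((hy.map φ.symm).map _) hē ?_⟩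
  rw [← map_sub]
  refine mem_jacobson_of_forall fun M hM => ?_
  set P := M.comap (Ideal.Quotient.mk mB) with hPdef
  have hP : P.IsMaximal := Ideal.comap_isMaximal_of_surjective _ Ideal.Quotient.mk_surjective
  refine Ideal.mem_comap.mp (show φ.symm y - b ∈ P from ?_)
  have hbb : b * b - b ∈ P := by
    rw [Ideal.mem_comap, map_sub, map_mul, hē.eq, sub_self]; exact zero_mem _
  obtain ⟨i, hi⟩ : ∃ i, φ.symm (Pi.single i 1) ∉ P := by
    by_contra! hall
    refine hP.ne_top ((Ideal.eq_top_iff_one _).mpr ?_)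
    rw [← map_one φ.symm, ← Finset.univ_sum_single (1 : ∀ i, C i), map_sum]
    exact sum_mem fun i _ => hall i
  have hred : ∀ x : B, φ x i = 0 → x ∈ P := fun x hx =>
    (hP.isPrime.mem_or_mem (show x * φ.symm (Pi.single i 1) ∈ P by
      have : φ (x * φ.symm (Pi.single i 1)) = 0 := by
        rw [map_mul, φ.apply_symm_apply, ← Pi.single_mul_right, hx, zero_mul, Pi.single_zero]
      rw [(φ.map_eq_zero_iff).mp this]; exact zero_mem _)).resolve_right hi
  have hnu : ∀ x : B, x ∈ P → ¬ IsUnit (φ x i) := fun x hx hu => hi (by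
    obtain ⟨u, hu⟩ := hu.exists_left_inv
    have : φ.symm (Pi.single i 1) = φ.symm (Pi.single i u) * x := by
      apply φ.injective
      rw [map_mul, φ.apply_symm_apply, φ.apply_symm_apply, ← Pi.single_mul_left, hu]
    rw [this]; exact P.mul_mem_left _ hx)
  by_cases hb : IsUnit (φ b i)
  · have h1 : φ.symm y - 1 ∈ P := hred _ (by simp [y, hb])
    have h2 : b ∉ P := fun h => hnu b h hb
    have h3 : b - 1 ∈ P := (hP.isPrime.mem_or_mem (show b * (b - 1) ∈ P by
      rw [mul_sub, mul_one]; exact hbb)).resolve_left h2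
    simpa using sub_mem h1 h3
  · have h1 : φ.symm y ∈ P := hred _ (by simp [y, hb])
    refine sub_mem h1 (of_not_not fun h2 => hb ?_)
    have h3 : b - 1 ∈ P := (hP.isPrime.mem_or_mem (show b * (b - 1) ∈ P by
      rw [mul_sub, mul_one]; exact hbb)).resolve_left h2
    by_contra hn
    have h4 : IsUnit (φ (b - 1) i) := by
      have := (IsLocalRing.isUnit_or_isUnit_one_sub_self (φ b i)).resolve_left hn
      simpa using this.neg
    exact hnu _ h3 h4

/-- A finite product of local rings is the product of its localizations at maximal ideals. -/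
theorem bijective_pi_localization {R : Type u} [CommRing R] {ι : Type*} [Fintype ι] {C : ι → Type*}
    [∀ i, CommRing (C i)] [∀ i, IsLocalRing (C i)] (φ : R ≃+* (∀ i, C i)) :
    Function.Bijective
      (RingHom.pi (fun n : MaximalSpectrum R => algebraMap R (Localization.AtPrime n.asIdeal))) := by
  classical
  refine ⟨fun a b h => MaximalSpectrum.toPiLocalization_injective R h, fun z => ?_⟩
  let f : ∀ i, R →+* C i := fun i => (Pi.evalRingHom C i).comp φ.toRingHom
  have hf : ∀ i, Function.Surjective (f i) := fun i c => ⟨φ.symm (Pi.single i c), by simp [f]⟩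
  let m : ι → MaximalSpectrum R := fun i =>
    ⟨(IsLocalRing.maximalIdeal (C i)).comap (f i), Ideal.comap_isMaximal_of_surjective _ (hf i)⟩
  choose x s hz using fun n : MaximalSpectrum R => IsLocalization.exists_mk'_eq n.asIdeal.primeCompl (z n)
  let y : ∀ i, C i := fun i => φ (x (m i)) i * Ring.inverse (φ (s (m i) : R) i)
  have hu : ∀ i, IsUnit (φ (s (m i) : R) i) := fun i =>
    of_not_not fun h => (s (m i)).2 ((IsLocalRing.mem_maximalIdeal _).mpr h)
  refine ⟨φ.symm y, funext fun n => ?_⟩
  obtain ⟨i, hi⟩ : ∃ i, φ.symm (Pi.single i 1) ∉ n.asIdeal := by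
    by_contra! hall
    refine n.isMaximal.ne_top ((Ideal.eq_top_iff_one _).mpr ?_)
    rw [← map_one φ.symm, ← Finset.univ_sum_single (1 : ∀ i, C i), map_sum]
    exact sum_mem fun i _ => hall i
  obtain rfl : n = m i := MaximalSpectrum.ext (n.isMaximal.eq_of_le
    (m i).isMaximal.ne_top fun a ha => (IsLocalRing.mem_maximalIdeal _).mpr fun hu => hi (by
      obtain ⟨u, hu⟩ := hu.exists_left_inv
      have : φ.symm (Pi.single i 1) = φ.symm (Pi.single i u) * a := by
        apply φ.injective
        rw [map_mul, φ.apply_symm_apply, φ.apply_symm_apply, ← Pi.single_mul_left]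
        exact congrArg (Pi.single i) hu.symm
      rw [this]; exact n.asIdeal.mul_mem_left _ ha))
  rw [RingHom.pi_apply, ← hz (m i), IsLocalization.eq_mk'_iff_mul_eq, ← map_mul,
    IsLocalization.eq_iff_exists (m i).asIdeal.primeCompl]
  refine ⟨⟨φ.symm (Pi.single i 1), hi⟩, φ.injective ?_⟩
  change φ (φ.symm (Pi.single i 1) * (φ.symm y * (s (m i) : R))) = φ (φ.symm (Pi.single i 1) * x (m i))
  ext j
  rcases eq_or_ne j i with rfl | h
  · simp [y, mul_assoc, Ring.inverse_mul_cancel _ (hu j)]
  · simp [Pi.single_eq_of_ne h]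

end Groth.Agent.Hensel.Idem
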