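import Mathlib.RingTheory.Henselian
import Mathlib.RingTheory.AdjoinRoot
import Mathlib.RingTheory.Nakayama
import Mathlib.RingTheory.Idempotents

/-! Criteria for a local ring to be henselian. -/

namespace Groth.Agent.Hensel.Criteria

open Polynomial IsLocalRing

universe u

variable {R : Type u} [CommRing R] [IsLocalRing R]

/-- If `R[X]/f` splits as a product of local rings for monic `f`, simple roots lift. -/
theorem exists_root_of_prod {f : R[X]} (hf : f.Monic) {a₀ : R} (h₁ : f.eval a₀ ∈ maximalIdeal R)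
    (h₂ : IsUnit (f.derivative.eval a₀)) {ι : Type u} [Fintype ι] {A : ι → Type u}
    [∀ i, CommRing (A i)] (hloc : ∀ i, IsLocalRing (A i)) (Φ : AdjoinRoot f ≃+* (∀ i, A i)) :
    ∃ a, f.IsRoot a ∧ a - a₀ ∈ maximalIdeal R := by
  classical
  let x := AdjoinRoot.root f
  let ψ : AdjoinRoot f →+* ResidueField R := AdjoinRoot.lift (residue R) (residue R a₀)
    (by rw [eval₂_at_apply]; exact (residue_eq_zero_iff _).mpr h₁)
  have hψof : ∀ r, ψ (algebraMap R _ r) = residue R r := fun r => AdjoinRoot.lift_of _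
  have hψx : ψ x = residue R a₀ := AdjoinRoot.lift_root _
  let E : ι → AdjoinRoot f := fun i => Φ.symm (Pi.single i 1)
  have hsum : ∑ i, E i = 1 := by
    simp only [E]
    rw [← map_sum]
    simp [Finset.univ_sum_single (1 : ∀ i, A i), show (fun i => Pi.single i (1 : A i)) = fun i => Pi.single i ((1 : ∀ i, A i) i) from rfl]
  obtain ⟨i, hi⟩ : ∃ i, ψ (E i) ≠ 0 := by
    by_contra hall
    push Not at hall
    have := congrArg ψ hsum
    rw [map_sum, Finset.sum_eq_zero fun i _ => hall i, map_one] at this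
    exact zero_ne_one this
  have hidem : E i * E i = E i := by
    simp only [E, ← map_mul]
    congr 1
    rw [← Pi.single_mul, one_mul]
  have hψe : ψ (E i) = 1 := by
    have := congrArg ψ hidem
    rw [map_mul] at this
    exact (mul_eq_left₀ hi).mp this
  have hΦe : Φ (E i) = Pi.single i 1 := Φ.apply_symm_apply _
  have hunit : ∀ b, ψ b ≠ 0 → ∃ u, u * b * E i = E i := by
    intro b hb
    by_cases hu : IsUnit (Φ b i)
    · obtain ⟨w, hw⟩ := hu.exists_left_inv
      refine ⟨Φ.symm (Pi.single i w), Φ.injective ?_⟩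
      rw [map_mul, map_mul, Φ.apply_symm_apply, hΦe]
      ext j
      rcases eq_or_ne j i with rfl | hji
      · simpa using hw
      · simp [Pi.single_eq_of_ne hji]
    · -- otherwise `b` acts as a non-unit on the factor, but is a unit modulo `ker ψ`
      obtain ⟨s, hs⟩ : ∃ s, ψ (s * b) = 1 := by
        obtain ⟨r, hr⟩ := residue_surjective (ψ b)⁻¹
        exact ⟨algebraMap R _ r, by rw [map_mul, hψof, hr, inv_mul_cancel₀ hb]⟩
      have hu' : IsUnit (Φ (1 - s * b) i) := by
        rcases IsLocalRing.isUnit_or_isUnit_one_sub_self (Φ (s * b) i) with h | h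
        · exact absurd (isUnit_of_mul_isUnit_right (by simpa using h)) hu
        · simpa using h
      obtain ⟨w, hw⟩ := hu'.exists_left_inv
      have hcontra : Φ.symm (Pi.single i w) * (1 - s * b) * E i = E i := Φ.injective (by
        rw [map_mul, map_mul, Φ.apply_symm_apply, hΦe]
        ext j
        rcases eq_or_ne j i with rfl | hji
        · simpa using hw
        · simp [Pi.single_eq_of_ne hji])
      have := congrArg ψ hcontra
      rw [map_mul, map_mul, map_sub, map_one, hs, sub_self, mul_zero, zero_mul, hψe] at this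
      exact absurd this zero_ne_one
  set e := E i
  set J := (maximalIdeal R).map (algebraMap R (AdjoinRoot f))
  -- `e * (x - a₀)` vanishes modulo `m`
  obtain ⟨k, hk⟩ := X_sub_C_dvd_sub_C_eval (p := f) (a := a₀)
  have hka : k.eval a₀ = f.derivative.eval a₀ := by
    have := congrArg (fun p => eval a₀ (derivative p)) hk
    simpa [derivative_mul] using this.symm
  have hψk : ψ (AdjoinRoot.mk f k) ≠ 0 := by
    rw [show ψ (AdjoinRoot.mk f k) = k.eval₂ (residue R) (residue R a₀) from AdjoinRoot.lift_mk _ _,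
      eval₂_at_apply, hka]
    exact (h₂.map _).ne_zero
  obtain ⟨u, hu⟩ := hunit _ hψk
  have hxa : e * (x - algebraMap R _ a₀) ∈ J := by
    have h0 : (x - algebraMap R _ a₀) * AdjoinRoot.mk f k = -algebraMap R _ (f.eval a₀) := by
      have := congrArg (AdjoinRoot.mk f) hk
      rw [map_sub, AdjoinRoot.mk_self, zero_sub, map_mul, map_sub, AdjoinRoot.mk_C, AdjoinRoot.mk_C,
        AdjoinRoot.mk_X] at this
      exact this.symm
    have : e * (x - algebraMap R _ a₀) = u * e * ((x - algebraMap R _ a₀) * AdjoinRoot.mk f k) := by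
      conv_lhs => rw [← hu]
      ring
    rw [this, h0]
    exact Ideal.mul_mem_left _ _ (neg_mem (Ideal.mem_map_of_mem _ h₁))
  let M : Submodule R (AdjoinRoot f) := LinearMap.range (LinearMap.mulLeft R e)
  have hfin : Module.Finite R (AdjoinRoot f) := hf.finite_adjoinRoot
  have hM : M ≤ Submodule.span R {e} := by
    refine Submodule.le_of_le_smul_of_le_jacobson_bot
      (by simp only [M, LinearMap.range_eq_map]; exact hfin.fg_top.map _)
      (maximalIdeal_le_jacobson _) ?_
    rintro _ ⟨b, rfl⟩
    obtain ⟨p, rfl⟩ := AdjoinRoot.mk_surjective b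
    obtain ⟨q, hq⟩ := X_sub_C_dvd_sub_C_eval (p := p) (a := a₀)
    have hb : e * AdjoinRoot.mk f p = algebraMap R _ (p.eval a₀) * e
        + e * (e * (x - algebraMap R _ a₀) * AdjoinRoot.mk f q) := by
      have := congrArg (AdjoinRoot.mk f) hq
      rw [map_sub, map_mul, map_sub, AdjoinRoot.mk_C, AdjoinRoot.mk_C, AdjoinRoot.mk_X] at this
      rw [sub_eq_iff_eq_add] at this
      rw [← AdjoinRoot.algebraMap_eq] at this
      rw [this]
      linear_combination (-(x - algebraMap R _ a₀) * AdjoinRoot.mk f q) * hidem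
    change e * AdjoinRoot.mk f p ∈ _
    rw [hb]
    refine Submodule.add_mem_sup (Submodule.mem_span_singleton.mpr ⟨_, Algebra.smul_def _ _⟩) ?_
    have hJ : e * (x - algebraMap R _ a₀) * AdjoinRoot.mk f q ∈ maximalIdeal R • (⊤ : Submodule R (AdjoinRoot f)) := by
      rw [Ideal.smul_top_eq_map]; exact Ideal.mul_mem_right _ _ hxa
    have := Submodule.mem_map_of_mem (f := LinearMap.mulLeft R e) hJ
    rwa [Submodule.map_smul'', Submodule.map_top] at this
  have hcoord : ∀ b, ∃ c : R, c • e = e * b := fun b =>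
    Submodule.mem_span_singleton.mp (hM ⟨b, rfl⟩)
  -- no non-zero scalar kills `e`
  have hinj : ∀ c : R, c • e = 0 → c = 0 := by
    intro c hc
    let B := (AdjoinRoot.powerBasis' hf).basis
    choose l hl using fun j => hcoord (B j)
    set s := ∑ j, B.repr e j * l j with hsdef
    have hse : s • e = e := by
      conv_rhs => rw [← hidem]
      conv_rhs => arg 2; rw [← B.sum_repr e]
      rw [Finset.mul_sum, hsdef, Finset.sum_smul]
      exact Finset.sum_congr rfl fun j _ => by rw [mul_smul_comm, ← hl, smul_smul]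
    have hs1 : residue R s = 1 := by
      have := congrArg ψ hse
      rw [Algebra.smul_def, map_mul, hψof, hψe, mul_one] at this
      exact this
    have hsu : IsUnit s := of_not_not fun h => one_ne_zero (hs1 ▸ (residue_eq_zero_iff s).mpr h)
    refine hsu.mul_left_eq_zero.mp ?_
    rw [hsdef, Finset.mul_sum]
    refine Finset.sum_eq_zero fun j _ => ?_
    have : c * B.repr e j = 0 := by
      have := congrArg (fun v => B.repr v j) hc
      simpa using this
    rw [← mul_assoc, this, zero_mul]
  obtain ⟨a, ha⟩ := hcoord x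
  have hx : e * x = e * algebraMap R _ a := by rw [← ha, Algebra.smul_def, mul_comm]
  refine ⟨a, hinj _ ?_, ?_⟩
  · obtain ⟨q, hq⟩ := X_sub_C_dvd_sub_C_eval (p := f) (a := a)
    have := congrArg (AdjoinRoot.mk f) hq
    rw [map_sub, AdjoinRoot.mk_self, map_mul, map_sub, AdjoinRoot.mk_C, AdjoinRoot.mk_C, AdjoinRoot.mk_X,
      zero_sub] at this
    rw [Algebra.smul_def]
    have h5 : AdjoinRoot.of f (f.eval a) = algebraMap R _ (f.eval a) := rfl
    have h6 : AdjoinRoot.of f a = algebraMap R _ a := rfl
    rw [h5, h6] at this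
    linear_combination (-e) * this - AdjoinRoot.mk f q * hx
  · have := congrArg ψ hx
    rw [map_mul, map_mul, hψe, one_mul, one_mul, hψx, hψof] at this
    rw [← residue_eq_zero_iff, map_sub, this, sub_self]

theorem henselian_of_prod
    (h : ∀ F : R[X], F.Monic →
      ∃ (ι : Type u) (_ : Fintype ι) (A : ι → Type u) (_ : ∀ i, CommRing (A i)),
        (∀ i, IsLocalRing (A i)) ∧ Nonempty (AdjoinRoot F ≃+* (∀ i, A i))) :
    HenselianLocalRing R := by
  refine ⟨fun f hf a₀ h₁ h₂ => ?_⟩
  obtain ⟨ι, _, A, _, hloc, ⟨Φ⟩⟩ := h f hf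
  exact exists_root_of_prod hf h₁ h₂ hloc Φ

theorem henselian_of_factor
    (h : ∀ f : R[X], f.Monic → ∀ g₀ h₀ : (ResidueField R)[X], IsCoprime g₀ h₀ →
      f.map (residue R) = g₀ * h₀ →
      ∃ g h : R[X], f = g * h ∧ g.map (residue R) = g₀ ∧ h.map (residue R) = h₀) :
    HenselianLocalRing R := by
  refine ⟨fun f hf a₀ h₁ h₂ => ?_⟩
  obtain ⟨k, hk⟩ := X_sub_C_dvd_sub_C_eval (p := f) (a := a₀)
  have hka : k.eval a₀ = f.derivative.eval a₀ := by
    have := congrArg (fun p => eval a₀ (derivative p)) hk
    simpa [derivative_mul] using this.symm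
  have hfac : f.map (residue R) = (X - C (residue R a₀)) * k.map (residue R) := by
    have := congrArg (map (residue R)) hk
    simpa [(residue_eq_zero_iff _).mpr h₁] using this
  have hcop : IsCoprime (X - C (residue R a₀)) (k.map (residue R)) := by
    refine (irreducible_X_sub_C _).coprime_iff_not_dvd.mpr fun hdvd => ?_
    rw [dvd_iff_isRoot, IsRoot, eval_map_apply, hka] at hdvd
    exact (h₂.map (residue R)).ne_zero hdvd
  obtain ⟨g, q, hgq, hg, -⟩ := h f hf _ _ hcop hfac
  -- `R[X] ⧸ g` is generated by `1`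
  let B := AdjoinRoot g
  have hfin : Module.Finite R B := by
    have : Module.Finite R (AdjoinRoot f) := hf.finite_adjoinRoot
    have he : f.eval₂ (Algebra.ofId R B : R →+* B) (AdjoinRoot.root g) = 0 := by
      rw [hgq, eval₂_mul]
      exact mul_eq_zero_of_left (AdjoinRoot.eval₂_root g) _
    refine Module.Finite.of_surjective
      (AdjoinRoot.liftAlgHom f (Algebra.ofId R B) (AdjoinRoot.root g) he).toLinearMap fun b => ?_
    obtain ⟨p, rfl⟩ := AdjoinRoot.mk_surjective b
    exact ⟨AdjoinRoot.mk f p,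
      (AdjoinRoot.liftAlgHom_mk f (Algebra.ofId R B) (AdjoinRoot.root g) he p).trans (AdjoinRoot.aeval_eq p)⟩
  have htop : (⊤ : Submodule R B) ≤ LinearMap.range (Algebra.linearMap R B) := by
    refine Submodule.le_of_le_smul_of_le_jacobson_bot hfin.fg_top (maximalIdeal_le_jacobson _) ?_
    intro b _
    obtain ⟨p, rfl⟩ := AdjoinRoot.mk_surjective b
    obtain ⟨r, hr⟩ := X_sub_C_dvd_sub_C_eval (p := p) (a := a₀)
    refine Submodule.mem_sup.mpr ⟨algebraMap R B (p.eval a₀), LinearMap.mem_range_self _ _, _, ?_,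
      add_sub_cancel _ _⟩
    have h1 : AdjoinRoot.mk g (X - C a₀ - g) ∈ (maximalIdeal R).map (algebraMap R B) := by
      have hker : X - C a₀ - g ∈ RingHom.ker (mapRingHom (residue R)) := by
        simp [RingHom.mem_ker, hg]
      rw [ker_mapRingHom, ker_residue] at hker
      have := Ideal.mem_map_of_mem (AdjoinRoot.mk g) hker
      rwa [Ideal.map_map] at this
    rw [map_sub, AdjoinRoot.mk_self, sub_zero] at h1
    have h2 : AdjoinRoot.mk g p - algebraMap R B (p.eval a₀) = AdjoinRoot.mk g (X - C a₀) * AdjoinRoot.mk g r := by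
      rw [← map_mul, ← hr, map_sub, AdjoinRoot.mk_C]; rfl
    rw [Ideal.smul_top_eq_map, Submodule.restrictScalars_mem, h2]
    exact Ideal.mul_mem_right _ _ h1
  obtain ⟨a, ha⟩ := htop (Submodule.mem_top : AdjoinRoot.root g ∈ _)
  obtain ⟨s, hs⟩ : g ∣ X - C a := AdjoinRoot.mk_eq_zero.mp (by
    rw [map_sub, AdjoinRoot.mk_X, AdjoinRoot.mk_C, sub_eq_zero]; exact ha.symm)
  have hbar : s.map (residue R) = 1 ∧ residue R a = residue R a₀ := by
    have h3 : (X - C (residue R a)) = (X - C (residue R a₀)) * s.map (residue R) := by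
      have := congrArg (map (residue R)) hs
      simpa [hg] using this
    have h4 : residue R a = residue R a₀ := by
      have := congrArg (eval (residue R a₀)) h3
      simp at this
      exact (sub_eq_zero.mp this).symm
    rw [h4] at h3
    exact ⟨mul_left_cancel₀ (X_sub_C_ne_zero _) (by rw [mul_one]; exact h3.symm), h4⟩
  have hga : g.eval a = 0 := by
    have h5 : g.eval a * s.eval a = 0 := by rw [← eval_mul, ← hs]; simp
    refine (IsUnit.mul_left_eq_zero ?_).mp h5
    refine of_not_not fun hn => ?_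
    have := (residue_eq_zero_iff _).mpr hn
    rw [← eval_map_apply, hbar.1, eval_one] at this
    exact one_ne_zero this
  exact ⟨a, by rw [IsRoot, hgq, eval_mul, hga, zero_mul], by
    rw [← residue_eq_zero_iff, map_sub, hbar.2, sub_self]⟩

end Groth.Agent.Hensel.Criteria
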