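import Groth.Agent.Hensel.Lift
import Groth.Agent.Hensel.Criteria
import Mathlib.RingTheory.Etale.QuasiFinite
import Mathlib.RingTheory.Ideal.MinimalPrime.Noetherian
import Mathlib.RingTheory.FiniteType

/-! Idempotent decompositions of finite type algebras over henselian local rings. -/

namespace Groth.Agent.Hensel.Decomp

open IsLocalRing TensorProduct

universe u v

variable {R : Type u} [CommRing R] [HenselianLocalRing R]

theorem exists_retraction (R' : Type u) [CommRing R'] [Algebra R R'] [Algebra.Etale R R']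
    (P : Ideal R') [P.IsPrime] [P.LiesOver (maximalIdeal R)]
    (H : Function.Bijective (Ideal.ResidueField.mapₐ (maximalIdeal R) P (Algebra.ofId _ _)
      (P.over_def (maximalIdeal R)))) :
    ∃ r : R' →ₐ[R] R, (maximalIdeal R).comap r.toRingHom = P := by
  have hsurj : Function.Surjective (Algebra.ofId R P.ResidueField) := by
    intro z
    obtain ⟨y, hy⟩ := H.2 z
    obtain ⟨t, ht⟩ := (maximalIdeal R).bijective_algebraMap_quotient_residueField.2 y
    obtain ⟨s, rfl⟩ := Ideal.Quotient.mk_surjective t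
    refine ⟨s, ?_⟩
    rw [← hy, ← ht]
    exact ((Ideal.ResidueField.mapₐ (maximalIdeal R) P (Algebra.ofId _ _) (P.over_def _)).commutes s).symm
  have hker : RingHom.ker (Algebra.ofId R P.ResidueField) = maximalIdeal R :=
    eq_maximalIdeal (RingHom.ker_isMaximal_of_surjective _ hsurj)
  let e : P.ResidueField ≃ₐ[R] ResidueField R :=
    (Ideal.quotientKerAlgEquivOfSurjective hsurj).symm.trans (Ideal.quotientEquivAlgOfEq R hker)
  let ψ : R' →ₐ[R] ResidueField R := e.toAlgHom.comp (IsScalarTower.toAlgHom R R' P.ResidueField)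
  obtain ⟨r, hr, -⟩ := Lift.existsUnique_algHom ψ
  refine ⟨r, ?_⟩
  ext a
  rw [Ideal.mem_comap, ← residue_eq_zero_iff]
  change residue R (r a) = 0 ↔ _
  rw [hr a]
  simp [ψ]

variable {S : Type v} [CommRing S] [Algebra R S]

/-- A quasi-finite prime over the closed point is cut out by an idempotent with finite factor. -/
theorem exists_idempotent [Algebra.FiniteType R S] (q : Ideal S) [q.IsPrime]
    [q.LiesOver (maximalIdeal R)] [Algebra.QuasiFiniteAt R q] :
    ∃ e : S, IsIdempotentElem e ∧ e ∉ q ∧ Module.Finite R (S ⧸ Ideal.span ({1 - e} : Set S)) ∧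
      ∀ M : Ideal S, M.IsPrime → M.LiesOver (maximalIdeal R) → e ∉ M → M = q := by
  obtain ⟨R', _, _, _, P, _, _, e, he, P', _, _, hP'q, heP', hH, hfin, huniq⟩ :=
    Algebra.exists_etale_isIdempotentElem_forall_liesOver_eq (maximalIdeal R) q
  obtain ⟨r, hr⟩ := exists_retraction R' P hH
  let Φ : R' ⊗[R] S →ₐ[R] S :=
    Algebra.TensorProduct.lift ((Algebra.ofId R S).comp r) (AlgHom.id R S) fun _ _ => .all _ _
  have hΦ : ∀ s, Φ (1 ⊗ₜ s) = s := fun s => by simp [Φ]
  have hΦl : ∀ a, Φ (algebraMap R' (R' ⊗[R] S) a) = algebraMap R S (r a) := fun a => by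
    simp [Φ, Algebra.TensorProduct.algebraMap_apply]
  have key : ∀ M : Ideal S, M.IsPrime → M.LiesOver (maximalIdeal R) → Φ e ∉ M →
      M.comap Φ.toRingHom = P' := by
    intro M hM hMo hMe
    refine huniq _ (Ideal.IsPrime.comap _) ⟨?_⟩ hMe
    ext a
    rw [← hr, Ideal.mem_comap, Ideal.mem_comap]
    change r a ∈ maximalIdeal R ↔ Φ (algebraMap R' _ a) ∈ M
    rw [hΦl, hMo.over, Ideal.mem_comap]
  have heq : Φ e ∉ q := by
    intro hmem
    have h1 : (q.comap Φ.toRingHom).LiesOver P := ⟨by
      ext a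
      rw [← hr, Ideal.mem_comap, Ideal.mem_comap]
      change r a ∈ maximalIdeal R ↔ Φ (algebraMap R' _ a) ∈ q
      rw [hΦl, q.over_def (maximalIdeal R), Ideal.mem_comap]⟩
    have h2 := Ideal.eq_of_comap_eq_comap_of_bijective_residueFieldMap hH (q.comap Φ.toRingHom) P' (by
      rw [hP'q]
      ext s
      simp only [Ideal.mem_comap]
      change Φ (1 ⊗ₜ s) ∈ q ↔ _
      rw [hΦ])
    exact heP' (h2 ▸ hmem)
  refine ⟨Φ e, he.map Φ, heq, ?_, fun M hM hMo hMe => ?_⟩
  · let π := Ideal.Quotient.mk (Ideal.span ({1 - Φ e} : Set S))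
    have hunit : IsUnit (π (Φ e)) := by
      have : π (Φ e) = 1 := by
        rw [← map_one π, Ideal.Quotient.eq, ← neg_sub 1 (Φ e)]
        exact neg_mem (Ideal.mem_span_singleton_self (1 - Φ e))
      exact this ▸ isUnit_one
    let Ψ : Localization.Away e →+* S ⧸ Ideal.span ({1 - Φ e} : Set S) :=
      IsLocalization.Away.lift e (g := π.comp Φ.toRingHom) hunit
    have hΨ : ∀ z, Ψ (algebraMap _ _ z) = π (Φ z) := fun z => IsLocalization.Away.lift_eq e hunit z
    classical
    obtain ⟨t, ht⟩ := hfin.fg_top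
    refine ⟨⟨t.image Ψ, eq_top_iff.mpr fun x _ => ?_⟩⟩
    obtain ⟨x, rfl⟩ := Ideal.Quotient.mk_surjective x
    have hx : algebraMap _ (Localization.Away e) (1 ⊗ₜ x : R' ⊗[R] S) ∈ Submodule.span R' (t : Set (Localization.Away e)) :=
      ht ▸ Submodule.mem_top
    have : ∀ z ∈ Submodule.span R' (t : Set (Localization.Away e)), Ψ z ∈ Submodule.span R (Ψ '' t) := by
      intro z hz
      induction hz using Submodule.span_induction with
      | mem z hz => exact Submodule.subset_span ⟨z, hz, rfl⟩
      | zero => simp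
      | add a b _ _ ha hb => rw [map_add]; exact add_mem ha hb
      | smul c a _ ha =>
        rw [Algebra.smul_def, map_mul, IsScalarTower.algebraMap_apply R' (R' ⊗[R] S) (Localization.Away e),
          hΨ, hΦl]
        change algebraMap R _ (r c) * Ψ a ∈ _
        rw [← Algebra.smul_def]
        exact Submodule.smul_mem _ _ ha
    have h3 := this _ hx
    rw [hΨ, hΦ] at h3
    simpa using h3
  · have h1 : M.comap Φ.toRingHom = P' := key M hM hMo hMe
    have h2 : q.comap Φ.toRingHom = P' := key q inferInstance inferInstance heq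
    have hsurj : Function.Surjective Φ.toRingHom := fun s => ⟨1 ⊗ₜ s, hΦ s⟩
    exact Ideal.comap_injective_of_surjective _ hsurj (h1.trans h2.symm)

omit [HenselianLocalRing R] in
theorem finite_quotient_of_mem_span {ι : Type*} [Fintype ι] (E : ι → S)
    (hE : ∀ i, IsIdempotentElem (E i)) (hfin : ∀ i, Module.Finite R (S ⧸ Ideal.span ({1 - E i} : Set S)))
    {e : S} (hspan : e ∈ Ideal.span (Set.range E)) :
    Module.Finite R (S ⧸ Ideal.span ({1 - e} : Set S)) := by
  let π : S →ₐ[R] S ⧸ Ideal.span ({1 - e} : Set S) := Ideal.Quotient.mkₐ R _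
  let g : ∀ i, (S ⧸ Ideal.span ({1 - E i} : Set S)) →ₗ[R] S ⧸ Ideal.span ({1 - e} : Set S) := fun i =>
    Submodule.liftQ ((Ideal.span ({1 - E i} : Set S)).restrictScalars R)
      (π.toLinearMap ∘ₗ LinearMap.mulRight R (E i)) (by
        intro x hx
        obtain ⟨c, rfl⟩ := Ideal.mem_span_singleton'.mp (show x ∈ Ideal.span ({1 - E i} : Set S) from hx)
        simp [mul_assoc, sub_mul, (hE i).eq])
  have htop : (⊤ : Submodule R (S ⧸ Ideal.span ({1 - e} : Set S))) = ⨆ i, LinearMap.range (g i) := by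
    refine le_antisymm (fun z _ => ?_) le_top
    obtain ⟨z, rfl⟩ := Ideal.Quotient.mk_surjective z
    obtain ⟨c, hc⟩ := (Ideal.mem_span_range_iff_exists_fun (R := S)).mp hspan
    have : Ideal.Quotient.mk (Ideal.span ({1 - e} : Set S)) z = ∑ i, g i (Ideal.Quotient.mk _ (z * c i)) := by
      have h1 : Ideal.Quotient.mk (Ideal.span ({1 - e} : Set S)) z = Ideal.Quotient.mk _ (z * e) :=
        Ideal.Quotient.eq.mpr (by
          rw [← mul_one z, mul_assoc, one_mul, ← mul_sub]
          exact Ideal.mul_mem_left _ _ (Ideal.mem_span_singleton_self _))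
      rw [h1, show z * e = ∑ i, z * (c i * E i) by rw [← hc, Finset.mul_sum], map_sum]
      refine Finset.sum_congr rfl fun i _ => ?_
      rw [← mul_assoc]
      rfl
    rw [this]
    exact Submodule.sum_mem _ fun i _ => Submodule.mem_iSup_of_mem i (LinearMap.mem_range_self _ _)
  refine ⟨?_⟩
  rw [htop]
  refine Submodule.fg_iSup _ fun i => ?_
  rw [LinearMap.range_eq_map]
  exact (hfin i).fg_top.map _

/-- The finite part of a finite type algebra over a henselian local ring. -/
theorem exists_idempotent_finite [Algebra.FiniteType R S] :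
    ∃ e : S, IsIdempotentElem e ∧ Module.Finite R (S ⧸ Ideal.span ({1 - e} : Set S)) ∧
      ∀ (M : Ideal S) [M.IsPrime], M.LiesOver (maximalIdeal R) → Algebra.QuasiFiniteAt R M → e ∉ M := by
  classical
  let Q : Set (Ideal S) := {M | ∃ _ : M.IsPrime, M.LiesOver (maximalIdeal R) ∧ Algebra.QuasiFiniteAt R M}
  let J := (maximalIdeal R).map (algebraMap R S)
  have hQfin : Q.Finite := by
    let _ : Algebra (R ⧸ maximalIdeal R) (S ⧸ J) :=
      (Ideal.quotientMap J (algebraMap R S) Ideal.le_comap_map).toAlgebra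
    have : IsScalarTower R (R ⧸ maximalIdeal R) (S ⧸ J) := IsScalarTower.of_algebraMap_eq' rfl
    have : IsNoetherianRing (R ⧸ maximalIdeal R) := by
      let _ := Ideal.Quotient.field (maximalIdeal R)
      infer_instance
    have : Algebra.FiniteType R (S ⧸ J) :=
      Algebra.FiniteType.of_surjective (Ideal.Quotient.mkₐ R J) Ideal.Quotient.mk_surjective
    have : Algebra.FiniteType (R ⧸ maximalIdeal R) (S ⧸ J) :=
      Algebra.FiniteType.of_restrictScalars_finiteType R (R ⧸ maximalIdeal R) _
    have : IsNoetherianRing (S ⧸ J) := Algebra.FiniteType.isNoetherianRing (R ⧸ maximalIdeal R) _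
    have hfin : J.minimalPrimes.Finite := by
      rw [Ideal.minimalPrimes_eq_comap]
      exact (minimalPrimes.finite_of_isNoetherianRing _).image _
    refine hfin.subset ?_
    rintro M ⟨hM, hMo, hMq⟩
    obtain ⟨e, -, heM, -, huniq⟩ := exists_idempotent (R := R) M
    refine ⟨⟨hM, Ideal.map_le_iff_le_comap.mpr hMo.over.le⟩, fun N ⟨hN, hJN⟩ hNM => ?_⟩
    have hNo : N.LiesOver (maximalIdeal R) := ⟨le_antisymm (Ideal.map_le_iff_le_comap.mp hJN)
      (hMo.over ▸ Ideal.comap_mono hNM)⟩
    exact (huniq N hN hNo fun h => heM (hNM h)).ge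
  have := hQfin.fintype
  have h : ∀ M : Q, ∃ e : S, IsIdempotentElem e ∧ e ∉ M.1 ∧
      Module.Finite R (S ⧸ Ideal.span ({1 - e} : Set S)) := by
    rintro ⟨M, hM, hMo, hMq⟩
    obtain ⟨e, he, heM, hfin, -⟩ := exists_idempotent (R := R) M
    exact ⟨e, he, heM, hfin⟩
  choose E hE hEM hEfin using h
  refine ⟨1 - ∏ i, (1 - E i), ?_, finite_quotient_of_mem_span E hE hEfin ?_, fun M hM hMo hMq => ?_⟩
  · refine IsIdempotentElem.one_sub ?_
    rw [IsIdempotentElem, ← Finset.prod_mul_distrib]
    exact Finset.prod_congr rfl fun i _ => (hE i).one_sub.eq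
  · rw [← Ideal.Quotient.eq_zero_iff_mem, map_sub, map_one, map_prod,
      Finset.prod_congr rfl (g := fun _ => (1 : S ⧸ Ideal.span (Set.range E))) (fun i _ => ?_),
      Finset.prod_const_one, sub_self]
    rw [map_sub, map_one, Ideal.Quotient.eq_zero_iff_mem.mpr (Ideal.subset_span (Set.mem_range_self i)), sub_zero]
  · intro hmem
    have hi : ∀ N : Q, E N * (1 - ∏ i, (1 - E i)) = E N := fun N => by
      rw [← Finset.mul_prod_erase _ _ (Finset.mem_univ N), mul_sub, mul_one, ← mul_assoc, mul_sub,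
        mul_one, (hE N).eq, sub_self, zero_mul, sub_zero]
    exact hEM ⟨M, hM, hMo, hMq⟩ (hi ⟨M, hM, hMo, hMq⟩ ▸ M.mul_mem_left _ hmem)

omit [HenselianLocalRing R] in
/-- Quasi-finiteness passes from a factor `S / (e)` back to `S`. -/
theorem quasiFiniteAt_comap {e : S} (he : IsIdempotentElem e)
    (q : Ideal (S ⧸ Ideal.span ({e} : Set S))) [q.IsPrime] [Algebra.QuasiFiniteAt R q] :
    Algebra.QuasiFiniteAt R (q.comap (Ideal.Quotient.mk (Ideal.span ({e} : Set S)))) := by
  set π := Ideal.Quotient.mk (Ideal.span ({e} : Set S)) with hπ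
  have hnot : 1 - e ∉ q.comap π := fun h => by
    have h1 : π e = 0 := Ideal.Quotient.eq_zero_iff_mem.mpr (Ideal.mem_span_singleton_self e)
    rw [Ideal.mem_comap, map_sub, map_one, h1, sub_zero] at h
    exact (Ideal.IsPrime.ne_top ‹_›) ((Ideal.eq_top_iff_one _).mpr h)
  let f : Localization.AtPrime (q.comap π) →ₐ[R] Localization.AtPrime q :=
    ⟨Localization.localRingHom _ q π rfl, fun r => by
      simp [IsScalarTower.algebraMap_apply R S (Localization.AtPrime (q.comap π)),
        IsScalarTower.algebraMap_apply R (S ⧸ Ideal.span ({e} : Set S)) (Localization.AtPrime q), hπ]⟩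
  have hbij : Function.Bijective f := by
    refine ⟨?_, RingHom.surjectiveOnStalks_of_surjective Ideal.Quotient.mk_surjective q ‹_›⟩
    rw [injective_iff_map_eq_zero]
    intro x hx
    obtain ⟨x, s, rfl⟩ := IsLocalization.exists_mk'_eq (q.comap π).primeCompl x
    change Localization.localRingHom _ q π rfl _ = 0 at hx
    rw [Localization.localRingHom_mk', IsLocalization.mk'_eq_zero_iff] at hx
    obtain ⟨⟨t, ht⟩, htx⟩ := hx
    obtain ⟨t, rfl⟩ := Ideal.Quotient.mk_surjective t
    rw [← map_mul, Ideal.Quotient.eq_zero_iff_mem, Ideal.mem_span_singleton'] at htx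
    obtain ⟨c, hc⟩ := htx
    rw [IsLocalization.mk'_eq_zero_iff]
    refine ⟨⟨t * (1 - e), fun h => ((Ideal.IsPrime.mem_or_mem inferInstance h).elim ht hnot)⟩, ?_⟩
    change t * (1 - e) * x = 0
    linear_combination (-(1 - e)) * hc - c * he.eq
  exact (Algebra.QuasiFinite.iff_of_algEquiv (AlgEquiv.ofBijective f hbij)).mpr ‹_›

/-- Idempotents of the closed points of a finite algebra. -/
theorem exists_finite_decomposition [Module.Finite R S] :
    ∃ (_ : Fintype (MaximalSpectrum S)) (e : MaximalSpectrum S → S), CompleteOrthogonalIdempotents e ∧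
      ∀ M N : MaximalSpectrum S, e M ∉ N.asIdeal ↔ M = N := by
  classical
  have hover : ∀ M : Ideal S, M.IsMaximal → M.LiesOver (maximalIdeal R) := fun M hM =>
    ⟨(eq_maximalIdeal (Ideal.isMaximal_comap_of_isIntegral_of_isMaximal M)).symm⟩
  have : Finite (MaximalSpectrum S) := by
    have := (Algebra.QuasiFinite.finite_primesOver (R := R) (S := S) (maximalIdeal R)).to_subtype
    exact Finite.of_injective (β := (maximalIdeal R).primesOver S)
      (fun M => ⟨M.asIdeal, M.isMaximal.isPrime, hover _ M.isMaximal⟩)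
      fun M N h => MaximalSpectrum.ext (congrArg Subtype.val h)
  let _ := Fintype.ofFinite (MaximalSpectrum S)
  have h : ∀ M : MaximalSpectrum S, ∃ e : S, IsIdempotentElem e ∧ ∀ N : MaximalSpectrum S,
      e ∉ N.asIdeal ↔ M = N := by
    intro M
    have := hover _ M.isMaximal
    obtain ⟨e, he, heM, -, huniq⟩ := exists_idempotent (R := R) M.asIdeal
    exact ⟨e, he, fun N => ⟨fun hN => (MaximalSpectrum.ext (huniq _ N.isMaximal.isPrime (hover _ N.isMaximal) hN)).symm,
      fun h => h ▸ heM⟩⟩
  choose e he hiff using h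
  have hzero : ∀ x : S, IsIdempotentElem x → (∀ N : MaximalSpectrum S, x ∈ N.asIdeal) → x = 0 := by
    intro x hx hall
    have hu : IsUnit (1 - x) := by
      by_contra hnu
      obtain ⟨N, hN, hxN⟩ := exists_max_ideal_of_mem_nonunits hnu
      exact hN.ne_top ((Ideal.eq_top_iff_one _).mpr (by simpa using add_mem hxN (hall ⟨N, hN⟩)))
    exact hu.mul_right_eq_zero.mp (by rw [sub_mul, one_mul, hx.eq, sub_self])
  have hortho : Pairwise fun M N => e M * e N = 0 := by
    intro M N hMN
    refine hzero _ ((he M).mul (he N)) fun P => ?_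
    rcases eq_or_ne M P with rfl | hMP
    · exact Ideal.mul_mem_left M.asIdeal _ (of_not_not fun h => hMN ((hiff N M).mp h).symm)
    · exact Ideal.mul_mem_right _ _ (of_not_not fun h => hMP ((hiff M P).mp h))
  refine ⟨‹_›, e, ⟨⟨he, hortho⟩, ?_⟩, hiff⟩
  have hs : IsIdempotentElem (∑ M, e M) := OrthogonalIdempotents.isIdempotentElem_sum ⟨he, hortho⟩
  refine (sub_eq_zero.mp (hzero _ hs.one_sub fun N => ?_)).symm
  by_contra hN
  have h1 : (1 - ∑ M, e M) * e N = 0 := by
    rw [sub_mul, one_mul, Finset.sum_mul, Finset.sum_eq_single N (fun M _ hM => hortho hM) (by simp),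
      (he N).eq, sub_self]
  rcases N.isMaximal.isPrime.mem_or_mem (h1 ▸ N.asIdeal.zero_mem) with h | h
  · exact hN h
  · exact (hiff N N).mpr rfl h

theorem exists_equiv_pi (T : Type u) [CommRing T] [Algebra R T] [Module.Finite R T] :
    ∃ (ι : Type u) (_ : Fintype ι) (A : ι → Type u) (_ : ∀ i, CommRing (A i)),
      (∀ i, IsLocalRing (A i)) ∧ Nonempty (T ≃+* (∀ i, A i)) := by
  obtain ⟨_, e, he, hiff⟩ := exists_finite_decomposition (R := R) (S := T)
  refine ⟨MaximalSpectrum T, ‹_›, fun M => T ⧸ Ideal.span ({1 - e M} : Set T), inferInstance, fun M => ?_,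
    ⟨RingEquiv.ofBijective _ (CompleteOrthogonalIdempotents.bijective_pi' (e := fun M => 1 - e M)
      (by simpa using he))⟩⟩
  have hmem : 1 - e M ∈ M.asIdeal := by
    have h := (hiff M M).mpr rfl
    refine (M.isMaximal.isPrime.mem_or_mem (show e M * (1 - e M) ∈ M.asIdeal by
      rw [mul_sub, mul_one, (he.idem M).eq, sub_self]; exact zero_mem _)).resolve_left h
  set π := Ideal.Quotient.mk (Ideal.span ({1 - e M} : Set T))
  refine IsLocalRing.of_unique_max_ideal ⟨M.asIdeal.map π, ?_, ?_⟩
  · exact Ideal.IsMaximal.map_of_surjective_of_ker_le Ideal.Quotient.mk_surjective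
      (by rw [Ideal.mk_ker, Ideal.span_singleton_le_iff_mem]; exact hmem)
  · intro I hI
    have hc := Ideal.comap_isMaximal_of_surjective π Ideal.Quotient.mk_surjective (K := I)
    have heq : M = ⟨I.comap π, hc⟩ := (hiff M ⟨I.comap π, hc⟩).mp fun h => hI.ne_top (by
      rw [Ideal.mem_comap] at h
      have : π (e M) = 1 := by
        rw [← map_one π, Ideal.Quotient.eq, ← neg_sub 1 (e M)]
        exact neg_mem (Ideal.mem_span_singleton_self (1 - e M))
      rw [this] at h
      exact (Ideal.eq_top_iff_one _).mpr h)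
    exact ((congrArg (Ideal.map π) (congrArg MaximalSpectrum.asIdeal heq)).trans
      (Ideal.map_comap_of_surjective _ Ideal.Quotient.mk_surjective I)).symm

theorem henselian_of_finite (T : Type u) [CommRing T] [IsLocalRing T] [Algebra R T] [Module.Finite R T] :
    HenselianLocalRing T :=
  Criteria.henselian_of_prod fun F hF => by
    have : Module.Finite T (AdjoinRoot F) := hF.finite_adjoinRoot
    have : Module.Finite R (AdjoinRoot F) := Module.Finite.trans T (AdjoinRoot F)
    exact exists_equiv_pi (R := R) (AdjoinRoot F)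

end Groth.Agent.Hensel.Decomp
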