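import Groth.Agent.Hensel.System
import Mathlib.LinearAlgebra.Matrix.ToLinearEquiv
import Mathlib.RingTheory.Coprime.Lemmas
import Mathlib.Algebra.Polynomial.BigOperators
import Mathlib.FieldTheory.Separable

/-! Lifting coprime factorizations over henselian local rings (non-monic). -/

namespace Groth.Agent.Hensel.FactorLift

open Polynomial IsLocalRing

variable {B C : Type*} [CommRing B] [CommRing C] {d N : ℕ}

noncomputable def mkH (y : Fin N → B) : B[X] := ∑ j : Fin N, monomial (j : ℕ) (y j)

noncomputable def mkG (x : Fin d → B) : B[X] := X ^ d + mkH x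

theorem coeff_mkH (y : Fin N → B) (k : ℕ) : (mkH y).coeff k = if h : k < N then y ⟨k, h⟩ else 0 := by
  rw [mkH, finsetSum_coeff]
  simp only [coeff_monomial]
  split_ifs with h
  · rw [Finset.sum_eq_single ⟨k, h⟩] <;> simp +contextual [Fin.ext_iff]
  · exact Finset.sum_eq_zero fun j _ => if_neg fun hj : (j : ℕ) = k => h (hj ▸ j.2)

theorem natDegree_mkH_le (y : Fin N → B) : (mkH y).natDegree ≤ N - 1 :=
  natDegree_sum_le_of_forall_le _ _ fun j _ => (natDegree_monomial_le _).trans (by omega)

theorem degree_mkH_lt (y : Fin N → B) : (mkH y).degree < (N : WithBot ℕ) :=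
  (degree_lt_iff_coeff_zero _ _).mpr fun k hk => by rw [coeff_mkH, dif_neg (not_lt.mpr hk)]

theorem monic_mkG (x : Fin d → B) : (mkG x).Monic := monic_X_pow_add (degree_mkH_lt x)

theorem map_mkH (f : B →+* C) (y : Fin N → B) : (mkH y).map f = mkH (f ∘ y) := by
  simp [mkH, Polynomial.map_sum]

theorem map_mkG (f : B →+* C) (x : Fin d → B) : (mkG x).map f = mkG (f ∘ x) := by
  simp [mkG, map_mkH]

theorem mkH_coeff {p : B[X]} (hp : p.natDegree < N) : mkH (fun j : Fin N => p.coeff j) = p := by
  ext k; rw [coeff_mkH]; split_ifs with h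
  · rfl
  · exact (coeff_eq_zero_of_natDegree_lt (by omega)).symm

theorem mkG_coeff {p : B[X]} (hp : p.Monic) (hd : p.natDegree = d) :
    mkG (fun j : Fin d => p.coeff j) = p := by
  ext k; rw [mkG, coeff_add, coeff_mkH, coeff_X_pow]
  rcases lt_trichotomy k d with h | rfl | h
  · simp [h, h.ne]
  · simp [← hd, hp.coeff_natDegree]
  · simp [h.ne', not_lt.mpr h.le, coeff_eq_zero_of_natDegree_lt (hd ▸ h)]

variable {R : Type*} [CommRing R]

/-- Coefficientwise derivation. -/
noncomputable def D {σ : Type*} (s : σ) (p : (MvPolynomial σ R)[X]) : (MvPolynomial σ R)[X] :=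
  ∑ i ∈ p.support, monomial i (MvPolynomial.pderiv s (p.coeff i))

theorem coeff_D {σ : Type*} (s : σ) (p : (MvPolynomial σ R)[X]) (k : ℕ) :
    (D s p).coeff k = MvPolynomial.pderiv s (p.coeff k) := by
  classical
  rw [D, finsetSum_coeff]
  simp only [coeff_monomial, Finset.sum_ite_eq']
  split_ifs with h
  · rfl
  · rw [notMem_support_iff.mp h, map_zero]

theorem pderiv_coeff_mul {σ : Type*} (s : σ) (p q : (MvPolynomial σ R)[X]) (k : ℕ) :
    MvPolynomial.pderiv s ((p * q).coeff k) = (D s p * q + p * D s q).coeff k := by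
  simp only [coeff_add, coeff_mul, coeff_D, map_sum, Derivation.leibniz, smul_eq_mul,
    ← Finset.sum_add_distrib]
  exact Finset.sum_congr rfl fun x _ => by ring

/-- Coprime factorization lifting. -/
theorem exists_lift {A : Type*} [CommRing A] [HenselianLocalRing A] (f : A[X])
    (g₀ h₀ : (ResidueField A)[X]) (hg : g₀.Monic) (hc : IsCoprime g₀ h₀)
    (hf : f.map (residue A) = g₀ * h₀) :
    ∃ g h : A[X], f = g * h ∧ g.Monic ∧ g.map (residue A) = g₀ ∧ h.map (residue A) = h₀ := by
  classical
  let d := g₀.natDegree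
  let N := max h₀.natDegree f.natDegree + 1
  let σ := Fin d ⊕ Fin N
  let idx : σ → ℕ := fun s => (finSumFinEquiv s : Fin (d + N))
  choose lg hlg using fun i : Fin d => residue_surjective (R := A) (g₀.coeff i)
  choose lh hlh using fun i : Fin N => residue_surjective (R := A) (h₀.coeff i)
  let a₀ : σ → A := Sum.elim lg lh
  let G : (MvPolynomial σ A)[X] := mkG fun i => MvPolynomial.X (Sum.inl i)
  let H : (MvPolynomial σ A)[X] := mkH fun j => MvPolynomial.X (Sum.inr j)
  let P : σ → MvPolynomial σ A := fun s => (G * H).coeff (idx s) - MvPolynomial.C (f.coeff (idx s))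
  have hGmap : ∀ a : σ → A, G.map (MvPolynomial.eval a) = mkG (a ∘ Sum.inl) := fun a => by
    simp only [G, map_mkG]; congr 1; ext i; simp
  have hHmap : ∀ a : σ → A, H.map (MvPolynomial.eval a) = mkH (a ∘ Sum.inr) := fun a => by
    simp only [H, map_mkH]; congr 1; ext i; simp
  have hP : ∀ a s, MvPolynomial.eval a (P s) =
      (mkG (a ∘ Sum.inl) * mkH (a ∘ Sum.inr)).coeff (idx s) - f.coeff (idx s) := fun a s => by
    rw [← hGmap, ← hHmap, ← Polynomial.map_mul, coeff_map]
    simp [P]
  have hg₀ : (mkG (a₀ ∘ Sum.inl)).map (residue A) = g₀ := by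
    rw [map_mkG, ← mkG_coeff hg rfl]; congr 1; ext i; exact hlg i
  have hh₀ : (mkH (a₀ ∘ Sum.inr)).map (residue A) = h₀ := by
    rw [map_mkH, ← mkH_coeff (p := h₀) (N := N) (by omega)]; congr 1; ext i; exact hlh i
  obtain ⟨a, ha, haa⟩ := System.exists_zero P a₀ (fun s => by
    rw [← residue_eq_zero_iff, hP, map_sub, ← coeff_map, ← coeff_map, Polynomial.map_mul, hg₀, hh₀, ← hf,
      sub_self]) (by
    refine Lift.isUnit_of_residue_ne_zero ?_
    rw [RingHom.map_det, Ne, ← Matrix.exists_mulVec_eq_zero_iff]
    rintro ⟨v, hv0, hv⟩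
    have hentry : ∀ (r s : σ), residue A (MvPolynomial.eval a₀ (MvPolynomial.pderiv s (P r))) =
        (Sum.elim (fun i : Fin d => monomial (i : ℕ) 1 * h₀)
          (fun j : Fin N => g₀ * monomial (j : ℕ) 1) s).coeff (idx r) := by
      intro r s
      have h1 : MvPolynomial.pderiv s (P r) = (D s G * H + G * D s H).coeff (idx r) := by
        simp only [P, map_sub, pderiv_coeff_mul, MvPolynomial.pderiv_C, sub_zero]
      rw [h1, ← coeff_map, ← coeff_map, Polynomial.map_map, Polynomial.map_add, Polynomial.map_mul,
        Polynomial.map_mul, ← Polynomial.map_map (f := MvPolynomial.eval a₀) (p := H),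
        ← Polynomial.map_map (f := MvPolynomial.eval a₀) (p := G), hGmap, hHmap, hg₀, hh₀]
      congr 1
      cases s with
      | inl i =>
        have hG : (D (Sum.inl i) G).map ((residue A).comp (MvPolynomial.eval a₀)) = monomial (i : ℕ) 1 := by
          ext k
          rw [coeff_map, coeff_D, coeff_monomial]
          simp only [G, mkG, coeff_add, coeff_mkH, coeff_X_pow]
          by_cases hk : k < d
          · rcases eq_or_ne (i : ℕ) k with h | h
            · obtain rfl : i = ⟨k, hk⟩ := Fin.ext h
              simp [hk, hk.ne, MvPolynomial.pderiv_X]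
            · have : i ≠ ⟨k, hk⟩ := fun e => h (congrArg Fin.val e)
              simp [hk, hk.ne, MvPolynomial.pderiv_X, h, this.symm, Pi.single_apply]
          · rw [dif_neg hk, if_neg fun h : (i : ℕ) = k => hk (h ▸ i.2)]
            split_ifs <;> simp
        have hH : (D (Sum.inl i) H).map ((residue A).comp (MvPolynomial.eval a₀)) = 0 := by
          ext k
          rw [coeff_map, coeff_D]
          simp only [H, coeff_mkH]
          split_ifs <;> simp [MvPolynomial.pderiv_X]
        simp [hG, hH]
      | inr j =>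
        have hG : (D (Sum.inr j) G).map ((residue A).comp (MvPolynomial.eval a₀)) = 0 := by
          ext k
          rw [coeff_map, coeff_D]
          simp only [G, mkG, coeff_add, coeff_mkH, coeff_X_pow]
          split_ifs <;> simp [MvPolynomial.pderiv_X]
        have hH : (D (Sum.inr j) H).map ((residue A).comp (MvPolynomial.eval a₀)) = monomial (j : ℕ) 1 := by
          ext k
          rw [coeff_map, coeff_D, coeff_monomial]
          simp only [H, coeff_mkH]
          by_cases hk : k < N
          · rcases eq_or_ne (j : ℕ) k with h | h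
            · obtain rfl : j = ⟨k, hk⟩ := Fin.ext h
              simp [hk, MvPolynomial.pderiv_X]
            · have : j ≠ ⟨k, hk⟩ := fun e => h (congrArg Fin.val e)
              simp [hk, MvPolynomial.pderiv_X, h, this.symm, Pi.single_apply]
          · rw [dif_neg hk, if_neg fun h : (j : ℕ) = k => hk (h ▸ j.2), map_zero, map_zero]
        simp [hG, hH]
    let u := mkH fun i : Fin d => v (Sum.inl i)
    let w := mkH fun j : Fin N => v (Sum.inr j)
    have hsum : u * h₀ + g₀ * w = 0 := by
      ext k
      by_cases hk : k < d + N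
      · have h2 := congrFun hv (finSumFinEquiv.symm ⟨k, hk⟩)
        simp only [Matrix.mulVec, dotProduct, RingHom.mapMatrix_apply, Matrix.map_apply, Matrix.of_apply,
          Pi.zero_apply, hentry, idx, Equiv.apply_symm_apply] at h2
        rw [Fintype.sum_sum_type] at h2
        rw [coeff_zero, ← h2, coeff_add]
        congr 1
        · rw [show u * h₀ = ∑ i : Fin d, C (v (Sum.inl i)) * (monomial (i : ℕ) 1 * h₀) by
            rw [show u = ∑ i : Fin d, monomial (i : ℕ) (v (Sum.inl i)) from rfl, Finset.sum_mul]
            exact Finset.sum_congr rfl fun i _ => by rw [← mul_assoc, C_mul_monomial, mul_one],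
            finsetSum_coeff]
          exact Finset.sum_congr rfl fun i _ => by rw [coeff_C_mul, Sum.elim_inl, mul_comm]
        · rw [show g₀ * w = ∑ j : Fin N, C (v (Sum.inr j)) * (g₀ * monomial (j : ℕ) 1) by
            rw [show w = ∑ j : Fin N, monomial (j : ℕ) (v (Sum.inr j)) from rfl, Finset.mul_sum]
            exact Finset.sum_congr rfl fun i _ => by rw [mul_left_comm, C_mul_monomial, mul_one],
            finsetSum_coeff]
          exact Finset.sum_congr rfl fun i _ => by rw [coeff_C_mul, Sum.elim_inr, mul_comm]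
      · rw [coeff_zero]
        have e1 : (u * h₀).natDegree ≤ d + N - 1 :=
          (natDegree_mul_le_of_le (m := d - 1) (n := N - 1) (natDegree_mkH_le _) (by omega)).trans (by omega)
        have e2 : (g₀ * w).natDegree ≤ d + N - 1 :=
          (natDegree_mul_le_of_le (m := d) (n := N - 1) (le_refl _) (natDegree_mkH_le _)).trans (by omega)
        exact coeff_eq_zero_of_natDegree_lt
          (lt_of_le_of_lt (natDegree_add_le_of_degree_le e1 e2) (by omega))
    have hdvd : g₀ ∣ u := hc.dvd_of_dvd_mul_right ⟨-w, by linear_combination hsum⟩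
    have hu : u = 0 := by
      by_contra hu
      exact absurd (degree_le_of_dvd hdvd hu) (not_le.mpr (by
        rw [degree_eq_natDegree hg.ne_zero]; exact degree_mkH_lt _))
    have hw : w = 0 := by
      rw [hu, zero_mul, zero_add] at hsum
      exact (mul_eq_zero.mp hsum).resolve_left hg.ne_zero
    refine hv0 (funext fun s => ?_)
    cases s with
    | inl i => simpa [u, coeff_mkH] using congrArg (fun p => p.coeff (i : ℕ)) hu
    | inr j => simpa [w, coeff_mkH] using congrArg (fun p => p.coeff (j : ℕ)) hw)
  have hres : residue A ∘ a = residue A ∘ a₀ := funext fun s => by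
    rw [Function.comp_apply, Function.comp_apply, ← sub_eq_zero, ← map_sub]
    exact (residue_eq_zero_iff _).mpr (haa s)
  refine ⟨mkG (a ∘ Sum.inl), mkH (a ∘ Sum.inr), ?_, monic_mkG _, ?_, ?_⟩
  · ext k
    by_cases hk : k < d + N
    · have h := ha (finSumFinEquiv.symm ⟨k, hk⟩)
      rw [hP, sub_eq_zero] at h
      simpa [idx] using h.symm
    · rw [coeff_eq_zero_of_natDegree_lt (by omega : f.natDegree < k),
        coeff_eq_zero_of_natDegree_lt]
      refine lt_of_le_of_lt (natDegree_mul_le_of_le (le_refl _) (natDegree_mkH_le _)) ?_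
      have : (mkG (a ∘ Sum.inl)).natDegree ≤ d := natDegree_le_of_degree_le
        ((degree_add_le _ _).trans (max_le (degree_X_pow_le d) (degree_mkH_lt _).le))
      omega
  · rw [map_mkG, ← hg₀, map_mkG, ← Function.comp_assoc, hres, Function.comp_assoc]
  · rw [map_mkH, ← hh₀, map_mkH, ← Function.comp_assoc, hres, Function.comp_assoc]

end Groth.Agent.Hensel.FactorLift
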