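import Groth.Agent.Hensel.Lift
import Mathlib.RingTheory.Smooth.StandardSmoothCotangent

/-! Square systems of equations over henselian local rings. -/

namespace Groth.Agent.Hensel.System

open MvPolynomial IsLocalRing

variable {R : Type*} [CommRing R] {σ : Type} [Fintype σ] [DecidableEq σ]

noncomputable def jacobianPoly (P : σ → MvPolynomial σ R) : MvPolynomial σ R :=
  (Matrix.of fun i j => pderiv j (P i)).det

abbrev Quot (P : σ → MvPolynomial σ R) : Type _ := MvPolynomial σ R ⧸ Ideal.span (Set.range P)

/-- The locus of simple zeros of a square system. -/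
abbrev Simple (P : σ → MvPolynomial σ R) : Type _ :=
  Localization.Away (Ideal.Quotient.mk (Ideal.span (Set.range P)) (jacobianPoly P))

instance etale_simple (P : σ → MvPolynomial σ R) : Algebra.Etale R (Simple P) := by
  let P₀ : Algebra.PreSubmersivePresentation R (Quot P) σ σ :=
    Algebra.PreSubmersivePresentation.naive id Function.injective_id
  let Q₀ := Algebra.PreSubmersivePresentation.localizationAway (Simple P)
    (Ideal.Quotient.mk (Ideal.span (Set.range P)) (jacobianPoly P))
  have hJ : P₀.jacobian = Ideal.Quotient.mk (Ideal.span (Set.range P)) (jacobianPoly P) := by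
    rw [Algebra.PreSubmersivePresentation.jacobian_eq_jacobiMatrix_det, P₀.algebraMap_eq]
    have hm : P₀.jacobiMatrix = (Matrix.of fun i j => pderiv j (P i)).transpose := by
      ext i j : 1; simp [P₀]
    rw [hm, Matrix.det_transpose]
    have hv : ∀ p : MvPolynomial σ R, aeval P₀.val p = Ideal.Quotient.mk (Ideal.span (Set.range P)) p := fun p => by
      change aeval (fun i => Ideal.Quotient.mkₐ R (Ideal.span (Set.range P)) (X i)) p =
        Ideal.Quotient.mkₐ R (Ideal.span (Set.range P)) p
      exact (AlgHom.congr_fun (aeval_unique (Ideal.Quotient.mkₐ R (Ideal.span (Set.range P)))) p).symm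
    exact hv _
  let S : Algebra.SubmersivePresentation R (Simple P) (Unit ⊕ σ) (Unit ⊕ σ) :=
    { toPreSubmersivePresentation := Q₀.comp P₀
      jacobian_isUnit := by
        rw [Algebra.PreSubmersivePresentation.comp_jacobian_eq_jacobian_smul_jacobian, hJ, Algebra.smul_def,
          Algebra.PreSubmersivePresentation.localizationAway_jacobian]
        exact (IsLocalization.Away.algebraMap_isUnit _).mul (IsLocalization.Away.algebraMap_isUnit _) }
  have : Algebra.IsStandardSmoothOfRelativeDimension 0 R (Simple P) :=
    ⟨_, _, inferInstance, inferInstance, S, by simp [Algebra.Presentation.dimension]⟩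
  infer_instance

variable {A : Type*} [CommRing A] [HenselianLocalRing A]

/-- Multivariate Hensel lemma. -/
theorem exists_zero (P : σ → MvPolynomial σ A) (a₀ : σ → A)
    (h₀ : ∀ i, eval a₀ (P i) ∈ maximalIdeal A)
    (hJ : IsUnit (Matrix.of fun i j => eval a₀ (pderiv j (P i))).det) :
    ∃ a : σ → A, (∀ i, eval a (P i) = 0) ∧ ∀ j, a j - a₀ j ∈ maximalIdeal A := by
  let ev : MvPolynomial σ A →ₐ[A] ResidueField A := aeval fun j => residue A (a₀ j)
  have hev : ∀ p, ev p = residue A (eval a₀ p) := fun p => by
    change ev p = ((IsScalarTower.toAlgHom A A (ResidueField A)).comp (aeval a₀)) p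
    rw [comp_aeval]; rfl
  let ψ₀ : Quot P →ₐ[A] ResidueField A := Ideal.Quotient.liftₐ _ ev fun p hp => by
    have hle : Ideal.span (Set.range P) ≤ RingHom.ker ev := Ideal.span_le.mpr (by
      rintro _ ⟨i, rfl⟩; exact (hev _).trans ((residue_eq_zero_iff _).mpr (h₀ i)))
    exact hle hp
  have hu : ∀ y : Submonoid.powers (Ideal.Quotient.mk (Ideal.span (Set.range P)) (jacobianPoly P)),
      IsUnit (ψ₀ y) := by
    rintro ⟨_, k, rfl⟩
    rw [map_pow]
    refine IsUnit.pow _ ?_
    change IsUnit (ev (jacobianPoly P))
    rw [hev, jacobianPoly, RingHom.map_det]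
    exact hJ.map _
  let ψ : Simple P →ₐ[A] ResidueField A := IsLocalization.liftAlgHom (f := ψ₀) hu
  obtain ⟨f, hf, -⟩ := Lift.existsUnique_algHom (S := A) ψ
  let g : MvPolynomial σ A →ₐ[A] A :=
    (f.comp (IsScalarTower.toAlgHom A (Quot P) (Simple P))).comp (Ideal.Quotient.mkₐ A _)
  refine ⟨fun j => g (X j), fun i => ?_, fun j => ?_⟩
  · have : g (P i) = 0 := by
      simp [g, Ideal.Quotient.eq_zero_iff_mem.mpr (Ideal.subset_span (Set.mem_range_self i))]
    rw [aeval_unique g] at this
    exact this
  · rw [← residue_eq_zero_iff, map_sub, sub_eq_zero]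
    change residue A (f _) = _
    rw [hf]
    exact (IsLocalization.lift_eq _ _).trans (aeval_X _ j)

end Groth.Agent.Hensel.System
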