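import Mathlib.RingTheory.Henselian
import Mathlib.RingTheory.Unramified.LocalStructure
import Mathlib.Algebra.Polynomial.Identities

/-! Lifting property of henselian local rings against étale algebras. -/

namespace Groth.Agent.Hensel.Lift

open Polynomial IsLocalRing

variable {R : Type*} [CommRing R] {S : Type*} [CommRing S] [HenselianLocalRing S]

theorem isUnit_of_residue_ne_zero {S : Type*} [CommRing S] [IsLocalRing S] {x : S}
    (h : residue S x ≠ 0) : IsUnit x :=
  of_not_not fun hx => h ((residue_eq_zero_iff x).mpr hx)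

theorem isUnit_of_isUnit_residue {S : Type*} [CommRing S] [IsLocalRing S] {x : S}
    (h : IsUnit (residue S x)) : IsUnit x := isUnit_of_residue_ne_zero h.ne_zero

/-- Two roots of a polynomial which are congruent modulo the maximal ideal coincide when simple. -/
theorem eq_of_isRoot {S : Type*} [CommRing S] [IsLocalRing S] {f : S[X]} {a b : S}
    (ha : f.IsRoot a) (hb : f.IsRoot b) (hd : IsUnit (f.derivative.eval a))
    (h : residue S a = residue S b) : a = b := by
  obtain ⟨k, hk⟩ := f.binomExpansion a (b - a)
  rw [add_sub_cancel, ha, hb, zero_add] at hk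
  have hu : IsUnit (f.derivative.eval a + k * (b - a)) := isUnit_of_isUnit_residue (by
    rw [map_add, map_mul, map_sub, h, sub_self, mul_zero, add_zero]
    exact hd.map _)
  have : (f.derivative.eval a + k * (b - a)) * (b - a) = 0 := by linear_combination -hk
  exact (sub_eq_zero.mp (hu.mul_right_eq_zero.mp this)).symm

variable [Algebra R S]

theorem existsUnique_lift_standard (P : StandardEtalePair R) {x₀ : ResidueField S}
    (hx : P.HasMap x₀) :
    ∃! a : S, P.HasMap a ∧ residue S a = x₀ := by
  obtain ⟨a₀, rfl⟩ := residue_surjective x₀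
  have hev : ∀ (q : R[X]) (y : S), aeval (residue S y) q = residue S (aeval y q) := fun q y =>
    aeval_algebraMap_apply (ResidueField S) y q
  have h₁ : residue S ((P.f.map (algebraMap R S)).eval a₀) = 0 := by
    rw [eval_map_algebraMap, ← hev]; exact hx.1
  have hd : ∀ y : S, residue S y = residue S a₀ →
      IsUnit ((P.f.map (algebraMap R S)).derivative.eval y) := fun y hy => by
    rw [derivative_map, eval_map_algebraMap]
    refine isUnit_of_isUnit_residue ?_
    rw [← hev, hy]
    exact hx.isUnit_derivative_f
  obtain ⟨a, ha, haa⟩ := HenselianLocalRing.is_henselian (P.f.map (algebraMap R S))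
    (P.monic_f.map _) a₀ ((residue_eq_zero_iff _).mp h₁) (hd a₀ rfl)
  have hra : residue S a = residue S a₀ := by
    rw [← sub_eq_zero, ← map_sub]; exact (residue_eq_zero_iff _).mpr haa
  refine ⟨a, ⟨⟨by rw [← eval_map_algebraMap]; exact ha, isUnit_of_isUnit_residue ?_⟩, hra⟩, ?_⟩
  · rw [← hev, hra]; exact hx.2
  · rintro b ⟨hb, hrb⟩
    refine eq_of_isRoot (f := P.f.map (algebraMap R S)) ?_ ha (hd b hrb) (hrb.trans hra.symm)
    rw [IsRoot, eval_map_algebraMap]; exact hb.1

variable {A : Type*} [CommRing A] [Algebra R A]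

/-- An étale algebra lifts uniquely from the residue field to a henselian local ring. -/
theorem existsUnique_algHom [Algebra.Etale R A] (ψ : A →ₐ[R] ResidueField S) :
    ∃! f : A →ₐ[R] S, ∀ a, residue S (f a) = ψ a := by
  have : (RingHom.ker ψ.toRingHom).IsPrime := RingHom.ker_isPrime _
  obtain ⟨g, hg, hstd⟩ := Algebra.IsEtaleAt.exists_isStandardEtale (R := R) (RingHom.ker ψ.toRingHom)
  have hgu : IsUnit (ψ g) := Ne.isUnit hg
  obtain ⟨pres⟩ := hstd.nonempty_standardEtalePresentation
  let e := pres.equivRing
  let ψg : Localization.Away g →ₐ[R] ResidueField S :=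
    IsLocalization.liftAlgHom (M := Submonoid.powers g) (f := ψ)
      (by rintro ⟨_, n, rfl⟩; simpa using hgu.pow n)
  let x₀ := ψg (e.symm pres.P.X)
  have hx₀ : pres.P.HasMap x₀ := StandardEtalePair.hasMap_X.map (ψg.comp e.symm.toAlgHom)
  have hfac : ∀ a, ψg (algebraMap A _ a) = ψ a := fun a => IsLocalization.lift_eq _ a
  obtain ⟨a, ⟨ha, hra⟩, huniq⟩ := existsUnique_lift_standard pres.P hx₀
  let F : Localization.Away g →ₐ[R] S := (pres.P.lift a ha).comp e.toAlgHom
  let res : S →ₐ[R] ResidueField S := IsScalarTower.toAlgHom R S (ResidueField S)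
  have hres : res.comp F = ψg := by
    have : (res.comp F).comp e.symm.toAlgHom = ψg.comp e.symm.toAlgHom := by
      refine StandardEtalePair.hom_ext ?_
      simp [F, res, hra, x₀]
    refine AlgHom.ext fun z => ?_
    simpa using DFunLike.congr_fun this (e z)
  refine ⟨F.comp (IsScalarTower.toAlgHom R A _), fun z => ?_, fun f hf => ?_⟩
  · rw [← hfac]
    exact DFunLike.congr_fun hres _
  · have hu : IsUnit (f g) := isUnit_of_isUnit_residue (by rw [hf]; exact hgu)
    let G : Localization.Away g →ₐ[R] S :=
      IsLocalization.liftAlgHom (M := Submonoid.powers g) (f := f)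
        (by rintro ⟨_, n, rfl⟩; simpa using hu.pow n)
    have hG : ∀ z, G (algebraMap A _ z) = f z := fun z => IsLocalization.lift_eq _ z
    have hresG : res.comp G = ψg := by
      refine AlgHom.coe_ringHom_injective (IsLocalization.ringHom_ext (Submonoid.powers g) ?_)
      ext z
      change res (G (algebraMap A _ z)) = ψg (algebraMap A _ z)
      rw [hG, hfac]; exact hf z
    have hGF : G = F := by
      have h1 : G (e.symm pres.P.X) = a := huniq _ ⟨StandardEtalePair.hasMap_X.map (G.comp e.symm.toAlgHom),
        DFunLike.congr_fun hresG _⟩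
      have h2 : G.comp e.symm.toAlgHom = pres.P.lift a ha := StandardEtalePair.hom_ext (by simpa using h1)
      refine AlgHom.ext fun z => ?_
      simpa [F] using DFunLike.congr_fun h2 (e z)
    refine AlgHom.ext fun z => ?_
    rw [← hG, hGF]; rfl

end Groth.Agent.Hensel.Lift
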