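import Groth.Agent.Hensel.Decomp
import Groth.Agent.Hensel.Idem
import Mathlib.RingTheory.Etale.StandardEtale
import Mathlib.RingTheory.IsAdjoinRoot
import Mathlib.RingTheory.Etale.Pi
import Mathlib.RingTheory.Unramified.LocalRing
import Mathlib.RingTheory.Etale.Field
import Mathlib.FieldTheory.PrimitiveElement
import Mathlib.RingTheory.TensorProduct.Pi
import Mathlib.Algebra.Group.Pi.Units

/-! Étale algebras mapping to finite algebras over henselian local rings. -/

namespace Groth.Agent.Hensel.FiniteEtale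

open IsLocalRing TensorProduct

universe u

theorem ext_of_forall_maximal {R E D : Type*} [CommRing R] [CommRing E] [CommRing D] [Algebra R E]
    [Algebra R D] [Algebra.FormallyUnramified R E] [Algebra.EssFiniteType R E] {f g : E →ₐ[R] D}
    (h : ∀ (M : Ideal D), M.IsMaximal → ∀ e, f e - g e ∈ M) : f = g := by
  let Φ : E ⊗[R] E →ₐ[R] D := Algebra.TensorProduct.productMap f g
  have hu : IsUnit (Φ (Algebra.FormallyUnramified.elem R E)) := by
    by_contra hnu
    obtain ⟨M, hM, hxM⟩ := exists_max_ideal_of_mem_nonunits hnu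
    let q : D →ₐ[R] D ⧸ M := Ideal.Quotient.mkₐ R M
    have hΦ : q.comp Φ = (q.comp g).comp (Algebra.TensorProduct.lmul' R) := by
      refine Algebra.TensorProduct.ext' fun a b => ?_
      have : q (f a) = q (g a) := Ideal.Quotient.eq.mpr (h M hM a)
      simp [Φ, Algebra.TensorProduct.productMap_apply_tmul, this]
    have h2 := AlgHom.congr_fun hΦ (Algebra.FormallyUnramified.elem R E)
    simp only [AlgHom.comp_apply, Algebra.FormallyUnramified.lmul_elem, map_one] at h2
    have h3 : q (Φ (Algebra.FormallyUnramified.elem R E)) = 0 := Ideal.Quotient.eq_zero_iff_mem.mpr hxM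
    rw [h3] at h2
    have : Nontrivial (D ⧸ M) := Ideal.Quotient.nontrivial_iff.mpr hM.ne_top
    exact zero_ne_one h2
  refine AlgHom.ext fun c => ?_
  have h1 := congrArg Φ (Algebra.FormallyUnramified.one_tmul_sub_tmul_one_mul_elem (R := R) c)
  rw [map_mul, map_zero, map_sub] at h1
  simp only [Φ, Algebra.TensorProduct.productMap_apply_tmul, map_one, mul_one, one_mul] at h1
  exact (sub_eq_zero.mp (hu.mul_left_eq_zero.mp h1)).symm

variable {R : Type u} [CommRing R] [HenselianLocalRing R]

/-- Maps from an étale algebra to a finite algebra lift along surjections with kernel in the radical. -/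
theorem bijective_comp {C : Type u} [CommRing C] [Algebra R C] [Module.Finite R C] {D : Type*}
    [CommRing D] [Algebra R D] (π : C →ₐ[R] D) (hπ : Function.Surjective π)
    (hker : RingHom.ker π ≤ Ideal.jacobson ⊥) (E : Type*) [CommRing E] [Algebra R E] [Algebra.Etale R E] :
    Function.Bijective (fun φ : E →ₐ[R] C => π.comp φ) := by
  refine ⟨fun f g hfg => ext_of_forall_maximal fun M hM e => ?_, fun χ => ?_⟩
  · refine Idem.mem_of_mem_jacobson (hker ?_) M
    rw [RingHom.mem_ker, map_sub, sub_eq_zero]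
    exact AlgHom.congr_fun hfg e
  obtain ⟨ι, _, A, _, _, ⟨φ⟩⟩ := Decomp.exists_equiv_pi (R := R) C
  let _ : ∀ i, Algebra R (A i) := fun i =>
    (((Pi.evalRingHom A i).comp φ.toRingHom).comp (algebraMap R C)).toAlgebra
  let φ' : C ≃ₐ[R] (∀ i, A i) := AlgEquiv.ofRingEquiv (f := φ) fun r => rfl
  let p : ∀ i, C →ₐ[R] A i := fun i => (Pi.evalAlgHom R A i).comp φ'.toAlgHom
  have hp : ∀ i, Function.Surjective (p i) := fun i => by
    classical
    exact fun a => ⟨φ'.symm (Pi.single i a), by simp [p]⟩
  have : ∀ i, Module.Finite R (A i) := fun i => Module.Finite.of_surjective (p i).toLinearMap (hp i)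
  have : ∀ i, HenselianLocalRing (A i) := fun i => Decomp.henselian_of_finite (R := R) (A i)
  have hpjac : ∀ (i) (x : C), x ∈ Ideal.jacobson ⊥ → residue (A i) (p i x) = 0 := fun i x hx => by
    have : ((maximalIdeal (A i)).comap (p i)).IsMaximal := Ideal.comap_isMaximal_of_surjective _ (hp i)
    exact (residue_eq_zero_iff _).mpr (Idem.mem_of_mem_jacobson hx ((maximalIdeal (A i)).comap (p i)))
  choose c hc using fun e => hπ (χ e)
  have hwd : ∀ (i) (x y : C), π x = π y → residue (A i) (p i x) = residue (A i) (p i y) := fun i x y h => by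
    rw [← sub_eq_zero, ← map_sub, ← map_sub]
    exact hpjac i _ (hker (by rw [RingHom.mem_ker, map_sub, h, sub_self]))
  let ψ : ∀ i, E →ₐ[R] ResidueField (A i) := fun i =>
    { toFun := fun e => residue (A i) (p i (c e))
      map_one' := (hwd i _ 1 (by rw [hc, map_one, map_one])).trans (by simp)
      map_mul' := fun x y => (hwd i _ (c x * c y) (by rw [hc, map_mul, map_mul, hc, hc])).trans (by simp)
      map_zero' := (hwd i _ 0 (by rw [hc, map_zero, map_zero])).trans (by simp)
      map_add' := fun x y => (hwd i _ (c x + c y) (by rw [hc, map_add, map_add, hc, hc])).trans (by simp)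
      commutes' := fun r => (hwd i _ (algebraMap R C r) (by rw [hc, χ.commutes, π.commutes])).trans (by
        rw [(p i).commutes]; rfl) }
  choose f hf using fun i => (Lift.existsUnique_algHom (ψ i)).exists
  refine ⟨φ'.symm.toAlgHom.comp (Pi.algHom R A f), ext_of_forall_maximal fun M hM e => ?_⟩
  rw [← hc e]
  change π _ - π (c e) ∈ M
  rw [← map_sub]
  have : (M.comap π).IsMaximal := Ideal.comap_isMaximal_of_surjective _ hπ
  refine Idem.mem_of_mem_jacobson (x := φ'.symm (fun i => f i e) - c e) ?_ (M.comap π)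
  rw [Ideal.mem_jacobson_bot]
  intro y
  rw [← MulEquiv.isUnit_map φ', Pi.isUnit_iff]
  intro i
  refine Lift.isUnit_of_residue_ne_zero ?_
  have h0 : residue (A i) (f i e - φ' (c e) i) = 0 := by
    rw [map_sub, sub_eq_zero]; exact hf i e
  rw [map_add, map_mul, map_sub, φ'.apply_symm_apply, map_one, Pi.add_apply, Pi.mul_apply, Pi.sub_apply,
    Pi.one_apply, map_add, map_mul, h0, zero_mul, zero_add, map_one]
  exact one_ne_zero

omit [HenselianLocalRing R] in
theorem jac_of_map_maximalIdeal [IsLocalRing R] (C : Type*) [CommRing C] [Algebra R C] [Module.Finite R C] :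
    (maximalIdeal R).map (algebraMap R C) ≤ Ideal.jacobson ⊥ :=
  Idem.map_le_jacobson (Idem.maximalIdeal_le_jacobson R)

/-- The quotient to the closed fibre of a finite algebra. -/
theorem ker_includeRight (C : Type*) [CommRing C] [Algebra R C] [Module.Finite R C] :
    RingHom.ker (Algebra.TensorProduct.includeRight : C →ₐ[R] ResidueField R ⊗[R] C) ≤ Ideal.jacobson ⊥ :=
  fun x hx => Idem.mem_jacobson_of_forall fun M hM => by
    have hle : (maximalIdeal R).map (algebraMap R C) ≤ M :=
      (jac_of_map_maximalIdeal C).trans fun y hy => Idem.mem_of_mem_jacobson hy M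
    let g : ResidueField R →ₐ[R] C ⧸ M :=
      Ideal.Quotient.liftₐ _ (Algebra.ofId R (C ⧸ M)) fun r hr =>
        Ideal.Quotient.eq_zero_iff_mem.mpr (hle (Ideal.mem_map_of_mem _ hr))
    let T := Algebra.TensorProduct.lift g (Ideal.Quotient.mkₐ R M) fun _ _ => .all _ _
    have := congrArg T hx
    rw [map_zero] at this
    exact Ideal.Quotient.eq_zero_iff_mem.mp (by simpa [T] using this)

theorem includeRight_surjective (C : Type*) [CommRing C] [Algebra R C] :
    Function.Surjective (Algebra.TensorProduct.includeRight : C →ₐ[R] ResidueField R ⊗[R] C) := by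
  intro z
  induction z with
  | zero => exact ⟨0, map_zero _⟩
  | tmul a c =>
    obtain ⟨r, rfl⟩ := residue_surjective a
    refine ⟨r • c, ?_⟩
    rw [Algebra.TensorProduct.includeRight_apply, ← TensorProduct.smul_tmul]
    congr 1
    exact (Algebra.smul_def r (1 : ResidueField R)).trans (mul_one _)
  | add a b ha hb =>
    obtain ⟨a, rfl⟩ := ha; obtain ⟨b, rfl⟩ := hb
    exact ⟨a + b, map_add _ _ _⟩

open Polynomial in
theorem etale_adjoinRoot {S : Type*} [CommRing S] (P : S[X]) (hP : P.Monic) (h : IsCoprime P (derivative P)) :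
    Algebra.Etale S (AdjoinRoot P) := by
  obtain ⟨a, b, hab⟩ := h
  let Q : StandardEtalePair S :=
    { f := P, monic_f := hP, g := 1, cond := ⟨b, a, 0, by rw [pow_zero]; linear_combination hab⟩ }
  let e : AdjoinRoot P ≃ₐ[S] Localization.Away (AdjoinRoot.mk P (1 : S[X])) :=
    ((IsLocalization.atUnits (AdjoinRoot P) (Submonoid.powers (AdjoinRoot.mk P (1 : S[X])))
      (by rintro x ⟨n, rfl⟩; simp [IsUnit.mem_submonoid_iff]))).restrictScalars S
  exact Algebra.Etale.of_equiv (Q.equivAwayAdjoinRoot.trans e.symm)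

open Polynomial in
/-- A finite separable field extension of the residue field lifts to a finite étale algebra. -/
theorem exists_lift_field (L : Type u) [Field L] [Algebra (ResidueField R) L]
    [Module.Finite (ResidueField R) L] [Algebra.IsSeparable (ResidueField R) L] :
    ∃ (S : Type u) (_ : CommRing S) (_ : Algebra R S), Module.Finite R S ∧ Algebra.Etale R S ∧
      Nonempty (ResidueField R ⊗[R] S ≃ₐ[ResidueField R] L) := by
  let κ := ResidueField R
  obtain ⟨α, hα⟩ := Field.exists_primitive_element κ L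
  have hint : IsIntegral κ α := IsIntegral.of_finite κ α
  obtain ⟨P, hPp, -, hP⟩ := lifts_and_degree_eq_and_monic
    ((lifts_iff_coeff_lifts (f := residue R) _).mpr fun n => residue_surjective _) (minpoly.monic hint)
  have hsep : IsCoprime (P.map (residue R)) ((derivative P).map (residue R)) := by
    rw [← derivative_map, hPp]; exact Algebra.IsSeparable.isSeparable κ α
  have hcop : IsCoprime P (derivative P) := by
    have : Module.Finite R (AdjoinRoot P) := hP.finite_adjoinRoot
    obtain ⟨a₀, b₀, hab⟩ := hsep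
    obtain ⟨a, rfl⟩ := Polynomial.map_surjective _ residue_surjective a₀
    obtain ⟨b, rfl⟩ := Polynomial.map_surjective _ residue_surjective b₀
    have hu : IsUnit (AdjoinRoot.mk P (b * derivative P)) := by
      by_contra hnu
      obtain ⟨M, hM, hxM⟩ := exists_max_ideal_of_mem_nonunits hnu
      have h1 : a * P + b * derivative P - 1 ∈ Ideal.map Polynomial.C (maximalIdeal R) := by
        rw [← IsLocalRing.ker_residue (R := R), ← Polynomial.ker_mapRingHom, RingHom.mem_ker,
          Polynomial.coe_mapRingHom, Polynomial.map_sub, Polynomial.map_add, Polynomial.map_mul,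
          Polynomial.map_mul, hab, Polynomial.map_one, sub_self]
      have h2 := Ideal.mem_map_of_mem (AdjoinRoot.mk P) h1
      rw [Ideal.map_map] at h2
      have h3 : AdjoinRoot.mk P (a * P + b * derivative P - 1) ∈ M :=
        Idem.mem_of_mem_jacobson (jac_of_map_maximalIdeal (AdjoinRoot P) h2) M
      rw [map_sub, map_add, map_mul, AdjoinRoot.mk_self, mul_zero, zero_add, map_one] at h3
      exact hM.ne_top ((Ideal.eq_top_iff_one _).mpr (by simpa using sub_mem hxM h3))
    obtain ⟨c, hc⟩ := hu.exists_left_inv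
    obtain ⟨c, rfl⟩ := AdjoinRoot.mk_surjective c
    rw [← map_mul, ← map_one (AdjoinRoot.mk P), AdjoinRoot.mk_eq_mk] at hc
    obtain ⟨d, hd⟩ := hc
    exact ⟨-d, c * b, by linear_combination hd⟩
  refine ⟨AdjoinRoot P, inferInstance, inferInstance, hP.finite_adjoinRoot, etale_adjoinRoot P hP hcop, ⟨?_⟩⟩
  have hroot : aeval (AdjoinRoot.root (minpoly κ α)) P = 0 := by
    rw [← aeval_map_algebraMap κ, show algebraMap R κ = residue R from rfl, hPp]
    exact AdjoinRoot.eval₂_root _
  have hroot' : aeval ((1 : κ) ⊗ₜ[R] AdjoinRoot.root P) (minpoly κ α) = 0 := by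
    rw [← hPp, show residue R = algebraMap R κ from rfl, aeval_map_algebraMap]
    exact (aeval_algHom_apply (Algebra.TensorProduct.includeRight : AdjoinRoot P →ₐ[R] κ ⊗[R] AdjoinRoot P)
      (AdjoinRoot.root P) P).trans (by rw [AdjoinRoot.aeval_eq, AdjoinRoot.mk_self, map_zero])
  let f : κ ⊗[R] AdjoinRoot P →ₐ[κ] AdjoinRoot (minpoly κ α) :=
    Algebra.TensorProduct.lift (Algebra.ofId κ _)
      (AdjoinRoot.liftAlgHom P (Algebra.ofId R _) _ hroot) fun _ _ => .all _ _
  let g : AdjoinRoot (minpoly κ α) →ₐ[κ] κ ⊗[R] AdjoinRoot P :=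
    AdjoinRoot.liftAlgHom _ (Algebra.ofId κ _) _ hroot'
  refine (AlgEquiv.ofAlgHom f g ?_ ?_).trans ((IntermediateField.adjoinRootEquivAdjoin κ hint).trans
    ((IntermediateField.equivOfEq hα).trans IntermediateField.topEquiv))
  · refine AdjoinRoot.algHom_ext ?_
    simp [f, g]
  · refine Algebra.TensorProduct.ext (Algebra.ext_id _ _ _) (AdjoinRoot.algHom_ext ?_)
    simp [f, g]

theorem exists_lift (A : Type u) [CommRing A] [Algebra (ResidueField R) A]
    [Module.Finite (ResidueField R) A] [Algebra.Etale (ResidueField R) A] :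
    ∃ (S : Type u) (_ : CommRing S) (_ : Algebra R S), Module.Finite R S ∧ Algebra.Etale R S ∧
      Nonempty (ResidueField R ⊗[R] S ≃ₐ[ResidueField R] A) := by
  classical
  let κ := ResidueField R
  have : IsArtinianRing A := IsArtinianRing.of_finite κ A
  have := Algebra.FormallyUnramified.isReduced_of_field κ A
  let _ := Fintype.ofFinite (MaximalSpectrum A)
  have h : ∀ m : MaximalSpectrum A, ∃ (S : Type u) (_ : CommRing S) (_ : Algebra R S),
      Module.Finite R S ∧ Algebra.Etale R S ∧ Nonempty (κ ⊗[R] S ≃ₐ[κ] A ⧸ m.asIdeal) := fun m => by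
    let := Ideal.Quotient.field m.asIdeal
    have : Module.Finite κ (A ⧸ m.asIdeal) :=
      Module.Finite.of_surjective (Ideal.Quotient.mkₐ κ m.asIdeal).toLinearMap Ideal.Quotient.mk_surjective
    exact exists_lift_field (A ⧸ m.asIdeal)
  choose S hS hA hfin het e using h
  refine ⟨∀ m, S m, inferInstance, inferInstance, inferInstance, inferInstance, ⟨?_⟩⟩
  exact (Algebra.TensorProduct.piRight R κ κ S).trans
    ((AlgEquiv.piCongrRight fun m => (e m).some).trans
      ((IsArtinianRing.equivPi A).restrictScalars κ).symm)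

/-- Split an unramified algebra over a strictly henselian ring. -/
theorem unramified_split [IsSepClosed (ResidueField R)] (S : Type u) [CommRing S] [Algebra R S]
    [Algebra.Unramified R S] :
    ∃ (ι : Type u) (_ : Fintype ι) (A : ι → Type u) (_ : ∀ i, CommRing (A i))
      (_ : ∀ i, Algebra R (A i)) (B : Type u) (_ : CommRing B) (_ : Algebra R B),
      (∀ i, Function.Surjective (algebraMap R (A i))) ∧
      Ideal.map (algebraMap R B) (maximalIdeal R) = ⊤ ∧
      Nonempty (S ≃ₐ[R] ((∀ i, A i) × B)) := by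
  classical
  obtain ⟨e, he, hfin, hM⟩ := Decomp.exists_idempotent_finite (R := R) (S := S)
  let I := Ideal.span ({1 - e} : Set S)
  let J := Ideal.span ({e} : Set S)
  have hcop : IsCoprime I J := Ideal.isCoprime_span_singleton_iff (1 - e) e |>.mpr ⟨1, 1, by ring⟩
  have hbot : I ⊓ J = ⊥ := by
    rw [← Ideal.mul_eq_inf_of_coprime (Ideal.isCoprime_iff_sup_eq.mp hcop), Ideal.span_singleton_mul_span_singleton,
      Ideal.span_singleton_eq_bot, sub_mul, one_mul, he.eq, sub_self]
  let π : S →ₐ[R] (S ⧸ I) × (S ⧸ J) := (Ideal.Quotient.mkₐ R I).prod (Ideal.Quotient.mkₐ R J)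
  have hπ : Function.Bijective π := by
    refine ⟨(injective_iff_map_eq_zero _).mpr fun x hx => ?_, fun y => ?_⟩
    · have : x ∈ I ⊓ J := ⟨Ideal.Quotient.eq_zero_iff_mem.mp (congrArg Prod.fst hx),
        Ideal.Quotient.eq_zero_iff_mem.mp (congrArg Prod.snd hx)⟩
      rwa [hbot] at this
    · obtain ⟨z, hz⟩ := (Ideal.quotientInfEquivQuotientProd I J hcop).surjective y
      obtain ⟨z, rfl⟩ := Ideal.Quotient.mk_surjective z
      exact ⟨z, by rw [← hz]; rfl⟩
  have hB : Ideal.map (algebraMap R (S ⧸ J)) (maximalIdeal R) = ⊤ := by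
    by_contra hne
    obtain ⟨M, hMm, hle⟩ := Ideal.exists_le_maximal _ hne
    have hlo : (M.comap (Ideal.Quotient.mk J)).LiesOver (maximalIdeal R) := ⟨by
      rw [Ideal.under, Ideal.comap_comap]
      exact ((maximalIdeal.isMaximal R).eq_of_le (Ideal.comap_ne_top _ hMm.ne_top)
        (Ideal.map_le_iff_le_comap.mp hle))⟩
    refine hM (M.comap (Ideal.Quotient.mk J)) hlo inferInstance ?_
    rw [Ideal.mem_comap, Ideal.Quotient.eq_zero_iff_mem.mpr (Ideal.mem_span_singleton_self e)]
    exact zero_mem _
  have hunr : Algebra.FormallyUnramified R (S ⧸ I) :=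
    Algebra.FormallyUnramified.of_surjective (Ideal.Quotient.mkₐ R I) Ideal.Quotient.mk_surjective
  obtain ⟨ι, _, A, _, _, ⟨φ⟩⟩ := Decomp.exists_equiv_pi (R := R) (S ⧸ I)
  let algA : ∀ i, Algebra R (A i) := fun i =>
    (((Pi.evalRingHom A i).comp φ.toRingHom).comp (algebraMap R (S ⧸ I))).toAlgebra
  let φ' : (S ⧸ I) ≃ₐ[R] (∀ i, A i) := AlgEquiv.ofRingEquiv (f := φ) fun r => rfl
  refine ⟨ι, ‹_›, A, inferInstance, algA, S ⧸ J, inferInstance, inferInstance, fun i => ?_, hB,
    ⟨(AlgEquiv.ofBijective π hπ).trans (AlgEquiv.prodCongr φ' AlgEquiv.refl)⟩⟩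
  let p : (S ⧸ I) →ₐ[R] A i := (Pi.evalAlgHom R A i).comp φ'.toAlgHom
  have hp : Function.Surjective p := fun a => ⟨φ'.symm (Pi.single i a), by simp [p]⟩
  have : Module.Finite R (A i) := Module.Finite.of_surjective p.toLinearMap hp
  have : Algebra.FormallyUnramified R (A i) := Algebra.FormallyUnramified.of_surjective p hp
  have : IsLocalHom (algebraMap R (A i)) := ⟨fun r hr => by
    by_contra hnu
    have h1 : algebraMap R (A i) r ∈ Ideal.jacobson ⊥ := jac_of_map_maximalIdeal (A i)
      (Ideal.mem_map_of_mem _ hnu)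
    exact (IsLocalRing.mem_maximalIdeal _).mp (Idem.mem_of_mem_jacobson h1 (maximalIdeal (A i))) hr⟩
  have hres : Function.Surjective (algebraMap (ResidueField R) (ResidueField (A i))) :=
    IsSepClosed.algebraMap_surjective _ _
  have hA : Function.Surjective (Algebra.linearMap R (A i)) := by
    rw [← LinearMap.range_eq_top, ← top_le_iff]
    refine Submodule.le_of_le_smul_of_le_jacobson_bot Module.Finite.fg_top
      (Idem.maximalIdeal_le_jacobson R) fun a _ => ?_
    obtain ⟨x, hx⟩ := hres (residue (A i) a)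
    obtain ⟨r, rfl⟩ := residue_surjective x
    have h1 : a - algebraMap R (A i) r ∈ maximalIdeal (A i) := by
      rw [← residue_eq_zero_iff, map_sub, sub_eq_zero, ← hx]
      exact ResidueField.map_residue _ r
    rw [← Algebra.FormallyUnramified.map_maximalIdeal (R := R)] at h1
    refine Submodule.mem_sup.mpr ⟨algebraMap R (A i) r, ⟨r, rfl⟩, a - algebraMap R (A i) r, ?_, by abel⟩
    rw [Ideal.smul_top_eq_map]
    exact h1
  exact hA

end Groth.Agent.Hensel.FiniteEtale
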