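import Groth.Agent.Hensel.Root
import Mathlib.RingTheory.Smooth.Flat
import Mathlib.RingTheory.LocalRing.Module
import Mathlib.RingTheory.Nakayama
import Mathlib.RingTheory.QuasiFinite.Basic

/-! A local ring over which finite parts split off is henselian. -/

namespace Groth.Agent.Hensel.FinitePart

open Polynomial IsLocalRing

universe u

variable {R : Type u} [CommRing R] [IsLocalRing R]

/-- If every finite type algebra splits off a finite part containing all quasi-finite points over
the closed point, then simple roots lift. -/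
theorem henselian_of_finitePart
    (h : ∀ (S : Type u) [CommRing S] [Algebra R S] [Algebra.FiniteType R S],
      ∃ e : S, IsIdempotentElem e ∧ Module.Finite R (S ⧸ Ideal.span ({1 - e} : Set S)) ∧
        ∀ (q : Ideal (S ⧸ Ideal.span ({e} : Set S))) [q.IsPrime],
          q.LiesOver (IsLocalRing.maximalIdeal R) → ¬ Algebra.QuasiFiniteAt R q) :
    HenselianLocalRing R := by
  refine ⟨fun f hf a₀ h₁ h₂ => ?_⟩
  obtain ⟨k, hk⟩ := X_sub_C_dvd_sub_C_eval (p := f) (a := a₀)
  let P : StandardEtalePair R :=
    { f := f, monic_f := hf, g := derivative f * k, cond := ⟨k, 0, 1, by simp⟩ }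
  have hev : ∀ (q : R[X]) (y : R), aeval (residue R y) q = residue R (eval y q) := fun q y =>
    aeval_algebraMap_apply_eq_algebraMap_eval y q
  have hka : k.eval a₀ = f.derivative.eval a₀ := by
    have := congrArg (fun p => eval a₀ (derivative p)) hk
    simpa [derivative_mul] using this.symm
  have hx : P.HasMap (residue R a₀) := by
    refine ⟨by rw [hev]; exact (residue_eq_zero_iff _).mpr h₁, ?_⟩
    rw [hev]
    refine IsUnit.map _ ?_
    simp only [P, eval_mul, hka]
    exact h₂.mul h₂
  let φ := P.lift _ hx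
  have hφ : Function.Surjective φ := fun z => by
    obtain ⟨r, rfl⟩ := residue_surjective z
    exact ⟨algebraMap R _ r, φ.commutes r⟩
  let J := (maximalIdeal R).map (algebraMap R P.Ring)
  have hk0 : aeval P.X k * (P.X - algebraMap R _ a₀) = -algebraMap R _ (f.eval a₀) := by
    have := congrArg (aeval P.X) hk
    rw [map_sub, StandardEtalePair.hasMap_X.1, zero_sub, aeval_C, map_mul, map_sub, aeval_X, aeval_C] at this
    rw [mul_comm]; exact this.symm
  have hku : IsUnit (aeval P.X k) := by
    have := (StandardEtalePair.hasMap_X (P := P)).2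
    rw [show P.g = derivative f * k from rfl, map_mul] at this
    exact isUnit_of_mul_isUnit_right this
  have hXJ : P.X - algebraMap R _ a₀ ∈ J := by
    refine (Ideal.unit_mul_mem_iff_mem _ hku).mp ?_
    rw [hk0]
    exact neg_mem (Ideal.mem_map_of_mem _ h₁)
  let ρ : ResidueField R →ₐ[R] P.Ring ⧸ J :=
    Ideal.Quotient.liftₐ (maximalIdeal R) (Algebra.ofId R (P.Ring ⧸ J)) fun r hr => by
      change algebraMap R (P.Ring ⧸ J) r = 0
      rw [IsScalarTower.algebraMap_apply R P.Ring, Ideal.Quotient.algebraMap_eq]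
      exact Ideal.Quotient.eq_zero_iff_mem.mpr (Ideal.mem_map_of_mem _ hr)
  have hρ : ρ.comp φ = Ideal.Quotient.mkₐ R J := by
    refine StandardEtalePair.hom_ext ?_
    rw [AlgHom.comp_apply, StandardEtalePair.lift_X]
    change algebraMap R (P.Ring ⧸ J) a₀ = Ideal.Quotient.mk J P.X
    rw [IsScalarTower.algebraMap_apply R P.Ring, Ideal.Quotient.algebraMap_eq]
    exact (Ideal.Quotient.eq.mpr hXJ).symm
  set q₀ := RingHom.ker φ.toRingHom with hq₀
  have : q₀.IsMaximal := RingHom.ker_isMaximal_of_surjective _ hφ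
  have hover : q₀.LiesOver (maximalIdeal R) := ⟨by
    ext r
    simp [hq₀, Ideal.under, residue_eq_zero_iff]⟩
  have : Algebra.QuasiFinite R P.Ring := by
    have : Module.Finite R (AdjoinRoot P.f) := P.monic_f.finite_adjoinRoot
    have := Algebra.QuasiFinite.of_isLocalization (R := R) (S := AdjoinRoot P.f)
      (T := Localization.Away (AdjoinRoot.mk P.f P.g)) (Submonoid.powers (AdjoinRoot.mk P.f P.g))
    exact (Algebra.QuasiFinite.iff_of_algEquiv P.equivAwayAdjoinRoot).mpr this
  obtain ⟨e, he, hfin, hnot⟩ := h P.Ring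
  have heq : e ∉ q₀ := by
    intro hmem
    set π := Ideal.Quotient.mk (Ideal.span ({e} : Set P.Ring)) with hπ
    have hprime : (q₀.map π).IsPrime := Ideal.map_isPrime_of_surjective Ideal.Quotient.mk_surjective
      (by rw [Ideal.mk_ker, Ideal.span_singleton_le_iff_mem]; exact hmem)
    refine hnot (q₀.map π) ⟨?_⟩ inferInstance
    rw [hover.over, Ideal.under, Ideal.under,
      IsScalarTower.algebraMap_eq R P.Ring (P.Ring ⧸ Ideal.span ({e} : Set P.Ring)), ← Ideal.comap_comap]
    congr 1
    rw [Ideal.Quotient.algebraMap_eq, Ideal.comap_map_of_surjective _ Ideal.Quotient.mk_surjective,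
      ← RingHom.ker_eq_comap_bot, Ideal.mk_ker, sup_eq_left.mpr]
    exact (Ideal.span_singleton_le_iff_mem _).mpr hmem
  set T := P.Ring ⧸ Ideal.span ({1 - e} : Set P.Ring)
  let π : P.Ring →ₐ[R] T := Ideal.Quotient.mkₐ R _
  have hπe : π e = 1 := by
    rw [← map_one π]
    refine Ideal.Quotient.eq.mpr ?_
    rw [← neg_sub 1 e]
    exact neg_mem (Ideal.mem_span_singleton_self (1 - e))
  have htop : (⊤ : Submodule R T) ≤ LinearMap.range (Algebra.linearMap R T) := by
    refine Submodule.le_of_le_smul_of_le_jacobson_bot hfin.fg_top (maximalIdeal_le_jacobson _) ?_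
    intro t _
    obtain ⟨z, rfl⟩ := Ideal.Quotient.mk_surjective t
    obtain ⟨r, hr⟩ := residue_surjective (φ z)
    refine Submodule.mem_sup.mpr ⟨algebraMap R T r, LinearMap.mem_range_self _ _, _, ?_, add_sub_cancel _ _⟩
    have hzr : z - algebraMap R P.Ring r ∈ J := by
      rw [← Ideal.Quotient.mk_eq_mk_iff_sub_mem]
      have h1 : ρ (φ z) = Ideal.Quotient.mk J z := DFunLike.congr_fun hρ z
      rw [← h1, ← hr]
      exact ρ.commutes r
    have h2 := Ideal.mem_map_of_mem π.toRingHom hzr
    rw [Ideal.map_map, show π.toRingHom.comp (algebraMap R P.Ring) = algebraMap R T from π.comp_algebraMap] at h2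
    rw [Ideal.smul_top_eq_map, Submodule.restrictScalars_mem]
    have h3 : π z - algebraMap R T r ∈ (maximalIdeal R).map (algebraMap R T) := by simpa using h2
    exact h3
  let i : T →ₗ[R] P.Ring := Submodule.liftQ ((Ideal.span ({1 - e} : Set P.Ring)).restrictScalars R)
    (LinearMap.mulRight R e) (by
      intro x hx
      obtain ⟨c, rfl⟩ := Ideal.mem_span_singleton'.mp (show x ∈ Ideal.span ({1 - e} : Set P.Ring) from hx)
      simp [mul_assoc, sub_mul, he.eq])
  have : Module.Flat R T := Module.Flat.of_retract i π.toLinearMap (LinearMap.ext fun t => by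
    obtain ⟨z, rfl⟩ := Ideal.Quotient.mk_surjective t
    change π (z * e) = Ideal.Quotient.mk _ z
    rw [map_mul, hπe, mul_one]
    rfl)
  have hfree : Module.Free R T := Module.free_of_flat_of_isLocalRing
  have hT : Nontrivial T := Ideal.Quotient.nontrivial_iff.mpr fun htop' => heq (by
    have h1 : e * (1 - e) = 0 := by rw [mul_sub, mul_one, he.eq, sub_self]
    have : IsUnit (1 - e) := Ideal.span_singleton_eq_top.mp htop'
    rw [this.mul_left_eq_zero.mp h1]
    exact zero_mem _)
  have hinj : Function.Injective (algebraMap R T) := by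
    rw [injective_iff_map_eq_zero]
    intro c hc
    obtain ⟨j⟩ := (Module.Free.chooseBasis R T).index_nonempty
    have : c • (Module.Free.chooseBasis R T) j = 0 := by rw [Algebra.smul_def, hc, zero_mul]
    simpa using congrArg (fun v => (Module.Free.chooseBasis R T).repr v j) this
  let E : R ≃ₐ[R] T := AlgEquiv.ofBijective (Algebra.ofId R T) ⟨hinj, fun t => htop (Submodule.mem_top (x := t))⟩
  let r : P.Ring →ₐ[R] R := E.symm.toAlgHom.comp π
  have ha : P.HasMap (r P.X) := StandardEtalePair.hasMap_X.map r
  have h0 : f.eval (r P.X) = 0 := by rw [← coe_aeval_eq_eval]; exact ha.1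
  refine ⟨r P.X, h0, ?_⟩
  have hgu : IsUnit (k.eval (r P.X)) := by
    have := ha.2
    rw [coe_aeval_eq_eval] at this
    simp only [P, eval_mul] at this
    exact isUnit_of_mul_isUnit_right this
  have := congrArg (eval (r P.X)) hk
  rw [eval_sub, eval_C, h0, eval_mul, eval_sub, eval_X, eval_C, zero_sub] at this
  have h3 : (r P.X - a₀) * k.eval (r P.X) ∈ maximalIdeal R := this ▸ (maximalIdeal R).neg_mem h₁
  exact (Ideal.mul_unit_mem_iff_mem _ hgu).mp h3

end Groth.Agent.Hensel.FinitePart
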