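import Groth.Agent.Hensel.Lift
import Mathlib.RingTheory.Etale.Field
import Mathlib.FieldTheory.IsSepClosed

/-! Points of étale algebras over strictly henselian local rings. -/

namespace Groth.Agent.Hensel.Points

open IsLocalRing TensorProduct

theorem mem_range_of_isSepClosed {K : Type*} [Field K] [IsSepClosed K] {A : Type*} [CommRing A]
    [Algebra K A] [Algebra.EssFiniteType K A] [Algebra.FormallyEtale K A] {L : Type*} [CommRing L]
    [IsDomain L] [Algebra K L] (ψ : A →ₐ[K] L) (x : A) : ∃ c, algebraMap K L c = ψ x := by
  classical
  have := Algebra.FormallyUnramified.finite_of_free K A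
  have : IsArtinianRing A := isArtinian_of_tower K inferInstance
  let e := Algebra.FormallyEtale.equivPiOfIsSepClosed K A
  let := Fintype.ofFinite (PrimeSpectrum A)
  let φ := ψ.comp e.symm.toAlgHom
  obtain ⟨p, hp⟩ : ∃ p, φ (Pi.single p 1) ≠ 0 := by
    by_contra! hall
    refine one_ne_zero (α := L) ?_
    rw [← map_one φ, ← Finset.univ_sum_single (1 : PrimeSpectrum A → K), map_sum]
    exact Finset.sum_eq_zero fun p _ => hall p
  have h1 : φ (Pi.single p 1) = 1 := by
    refine mul_left_cancel₀ hp ?_
    rw [← map_mul, ← Pi.single_mul, one_mul, mul_one]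
  refine ⟨e x p, ?_⟩
  calc algebraMap K L (e x p) = φ (algebraMap K _ (e x p)) * φ (Pi.single p 1) := by
        rw [φ.commutes, h1, mul_one]
    _ = φ (e x) * φ (Pi.single p 1) := by
        rw [← map_mul, ← map_mul]
        congr 1; ext q
        rcases eq_or_ne q p with rfl | h
        · simp
        · simp [Pi.single_eq_of_ne h]
    _ = ψ x := by rw [h1, mul_one]; simp [φ]

universe u

variable {R S : Type u} [CommRing R] [CommRing S] [HenselianLocalRing R] [HenselianLocalRing S]
  [IsSepClosed (ResidueField R)] [Algebra R S] [IsLocalHom (algebraMap R S)]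
  {C : Type*} [CommRing C] [Algebra R C] [Algebra.Etale R C]

theorem bijective_comp :
    Function.Bijective (fun f : C →ₐ[R] R => (Algebra.ofId R S).comp f) := by
  refine ⟨fun f g hfg => ?_, fun h => ?_⟩
  · obtain ⟨u, -, hu⟩ := Lift.existsUnique_algHom ((IsScalarTower.toAlgHom R R (ResidueField R)).comp f)
    have hg : ∀ c, residue R (g c) = residue R (f c) := fun c => by
      apply (algebraMap (ResidueField R) (ResidueField S)).injective
      exact congrArg (residue S) (AlgHom.congr_fun hfg c).symm
    exact (hu f fun c => rfl).trans (hu g hg).symm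
  · let ψS : C →ₐ[R] ResidueField S := (IsScalarTower.toAlgHom R S (ResidueField S)).comp h
    let ψ' : ResidueField R ⊗[R] C →ₐ[ResidueField R] ResidueField S :=
      Algebra.TensorProduct.lift (Algebra.ofId _ _) ψS fun _ _ => .all _ _
    choose c hc using fun x : C => mem_range_of_isSepClosed ψ' (1 ⊗ₜ x)
    have hc' : ∀ x, algebraMap (ResidueField R) (ResidueField S) (c x) = ψS x := fun x => by
      rw [hc x]; simp [ψ']
    have hinj := (algebraMap (ResidueField R) (ResidueField S)).injective
    let ψR : C →ₐ[R] ResidueField R :=
      { toFun := c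
        map_one' := hinj (by rw [hc', map_one, map_one])
        map_mul' := fun x y => hinj (by rw [hc', map_mul, map_mul, hc', hc'])
        map_zero' := hinj (by rw [hc', map_zero, map_zero])
        map_add' := fun x y => hinj (by rw [hc', map_add, map_add, hc', hc'])
        commutes' := fun r => hinj (by
          rw [hc', ψS.commutes, ← IsScalarTower.algebraMap_apply R (ResidueField R) (ResidueField S)]) }
    obtain ⟨f, hf, -⟩ := Lift.existsUnique_algHom ψR
    obtain ⟨u, -, hu⟩ := Lift.existsUnique_algHom ψS
    refine ⟨f, (hu _ fun x => ?_).trans (hu h fun x => rfl).symm⟩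
    change residue S (algebraMap R S (f x)) = _
    rw [← hc']
    change _ = algebraMap (ResidueField R) (ResidueField S) (ψR x)
    rw [← hf x]
    rfl

end Groth.Agent.Hensel.Points
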