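import Groth.Agent.Hensel.Lift

/-! Simple roots of arbitrary polynomials, and retraction criterion. -/

namespace Groth.Agent.Hensel.Root

open Polynomial IsLocalRing

variable {R : Type*} [CommRing R]

/-- Henselian local rings lift simple roots of arbitrary (not necessarily monic) polynomials. -/
theorem exists_root [HenselianLocalRing R] (f : R[X]) (a₀ : R) (h₁ : f.eval a₀ ∈ maximalIdeal R)
    (h₂ : IsUnit (f.derivative.eval a₀)) : ∃ a, f.IsRoot a ∧ a - a₀ ∈ maximalIdeal R := by
  set g := taylor a₀ f with hg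
  obtain ⟨u, hu⟩ := h₂
  have hg1 : g.coeff 1 = u := by rw [hg, taylor_coeff_one, hu]
  have hg0 : g.coeff 0 = f.eval a₀ := by rw [hg, taylor_coeff_zero]
  set c := f.eval a₀ with hc
  -- the number of terms
  obtain ⟨N, hN⟩ : ∃ N, g.natDegree < N + 1 + 1 := ⟨g.natDegree, by omega⟩
  let e : ℕ → R := fun j => g.coeff (j + 2) * (-(u⁻¹ : Rˣ).1) ^ (j + 2) * c ^ (j + 1)
  have he : ∀ j, e j ∈ maximalIdeal R := fun j =>
    Ideal.mul_mem_left _ _ (Ideal.pow_mem_of_mem _ h₁ _ j.succ_pos)
  let h : R[X] := X ^ (N + 1) - X ^ N + ∑ j ∈ Finset.range N, C (e j) * X ^ (N - 1 - j)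
  have hmonic : h.Monic := by
    have : h = X ^ (N + 1) + (-X ^ N + ∑ j ∈ Finset.range N, C (e j) * X ^ (N - 1 - j)) := by
      simp [h]; ring
    rw [this]
    refine monic_X_pow_add ((degree_add_le _ _).trans_lt (max_lt ?_ ?_))
    · exact (degree_neg _).trans_lt ((degree_X_pow_le N).trans_lt (by exact_mod_cast N.lt_succ_self))
    · refine (degree_sum_le _ _).trans_lt ((Finset.sup_lt_iff (WithBot.bot_lt_coe _)).mpr fun j _ => ?_)
      exact (degree_C_mul_X_pow_le _ _).trans_lt (by exact_mod_cast (by omega : N - 1 - j < N + 1))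
  have hres : h.eval 1 ∈ maximalIdeal R := by
    simp [h, eval_finsetSum, Ideal.sum_mem _ fun j _ => he j]
  have hder : IsUnit (h.derivative.eval 1) := by
    refine Lift.isUnit_of_residue_ne_zero ?_
    have h0 : ∀ j, residue R (e j) = 0 := fun j => (residue_eq_zero_iff _).mpr (he j)
    simp [h, eval_finsetSum, derivative_sum, derivative_X_pow, h0]
  obtain ⟨w, hw, hw1⟩ := HenselianLocalRing.is_henselian h hmonic 1 hres hder
  have hwu : IsUnit w := Lift.isUnit_of_residue_ne_zero (by
    have := (residue_eq_zero_iff _).mpr hw1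
    rw [map_sub, map_one, sub_eq_zero] at this
    rw [this]; exact one_ne_zero)
  obtain ⟨v, rfl⟩ := hwu
  refine ⟨-(↑u⁻¹ * c * ↑v⁻¹) + a₀, ?_, by
    rw [add_sub_cancel_right]
    exact (maximalIdeal R).neg_mem (Ideal.mul_mem_right _ _ (Ideal.mul_mem_left _ _ h₁))⟩
  set y := -(↑u⁻¹ * c * ↑v⁻¹ : R) with hy
  rw [IsRoot, ← taylor_eval, ← hg, eval_eq_sum_range' hN]
  rw [IsRoot] at hw
  refine (v.isUnit.pow (N + 1)).mul_left_eq_zero.mp ?_
  have hyv : y * v = -(↑u⁻¹ : R) * c := by
    rw [hy, neg_mul, mul_assoc, Units.inv_mul, mul_one, neg_mul]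
  have hterm : ∀ j ∈ Finset.range N, g.coeff (j + 1 + 1) * y ^ (j + 1 + 1) * (v : R) ^ (N + 1)
      = c * (e j * (v : R) ^ (N - 1 - j)) := by
    intro j hj
    rw [Finset.mem_range] at hj
    calc g.coeff (j + 1 + 1) * y ^ (j + 1 + 1) * (v : R) ^ (N + 1)
        = g.coeff (j + 1 + 1) * (y * v) ^ (j + 1 + 1) * (v : R) ^ (N - 1 - j) := by
          rw [show N + 1 = (j + 1 + 1) + (N - 1 - j) by omega, mul_pow, pow_add (v : R)]; ring
      _ = c * (e j * (v : R) ^ (N - 1 - j)) := by
          rw [hyv]; simp only [e]; ring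
  rw [Finset.sum_range_succ', Finset.sum_range_succ', zero_add, pow_one, pow_zero, mul_one, hg0, hg1,
    add_mul, add_mul, Finset.sum_mul, Finset.sum_congr rfl hterm, ← Finset.mul_sum]
  have h3 : (u : R) * y * (v : R) ^ (N + 1) = -c * (v : R) ^ N := by
    rw [pow_succ', ← mul_assoc, mul_assoc (u : R), hyv, ← mul_assoc, mul_neg, Units.mul_inv, neg_one_mul]
  rw [h3]
  have h4 : h.eval (v : R) = (v : R) ^ (N + 1) - (v : R) ^ N + ∑ j ∈ Finset.range N, e j * (v : R) ^ (N - 1 - j) := by
    simp [h, eval_finsetSum]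
  linear_combination c * hw - c * h4

/-- The standard étale neighbourhood attached to a simple root. -/
theorem henselian_of_retraction.{u} {R : Type u} [CommRing R] [IsLocalRing R]
    (h : ∀ (S : Type u) [CommRing S] [Algebra R S] [Algebra.Etale R S] (q : Ideal S) [q.IsPrime],
      q.LiesOver (maximalIdeal R) → Function.Surjective (algebraMap R q.ResidueField) →
      Nonempty (S →ₐ[R] R)) :
    HenselianLocalRing R := by
  refine ⟨fun f hf a₀ h₁ h₂ => ?_⟩
  obtain ⟨k, hk⟩ := X_sub_C_dvd_sub_C_eval (p := f) (a := a₀)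
  let P : StandardEtalePair R :=
    { f := f, monic_f := hf, g := derivative f * k, cond := ⟨k, 0, 1, by simp⟩ }
  let ρ : R →ₐ[R] ResidueField R := Algebra.ofId R _
  have hev : ∀ (q : R[X]) (y : R), aeval (residue R y) q = residue R (eval y q) := fun q y =>
    aeval_algebraMap_apply_eq_algebraMap_eval y q
  have hka : k.eval a₀ = f.derivative.eval a₀ := by
    have := congrArg (fun p => eval a₀ (derivative p)) hk
    simpa [derivative_mul] using this.symm
  have hx : P.HasMap (residue R a₀) := by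
    refine ⟨by rw [hev]; exact (residue_eq_zero_iff _).mpr h₁, ?_⟩
    rw [hev]
    refine IsUnit.map _ ?_
    simp only [P, eval_mul, hka]
    exact h₂.mul h₂
  let φ := P.lift _ hx
  have hφ : Function.Surjective φ := fun z => by
    obtain ⟨r, rfl⟩ := residue_surjective z
    exact ⟨algebraMap R _ r, φ.commutes r⟩
  have hprime : (RingHom.ker φ.toRingHom).IsMaximal := RingHom.ker_isMaximal_of_surjective _ hφ
  have hover : (RingHom.ker φ.toRingHom).LiesOver (maximalIdeal R) := ⟨by
    ext r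
    simp [Ideal.under, residue_eq_zero_iff]⟩
  have hsurj : Function.Surjective (algebraMap R (RingHom.ker φ.toRingHom).ResidueField) := by
    intro z
    obtain ⟨s, rfl⟩ := (RingHom.ker φ.toRingHom).bijective_algebraMap_quotient_residueField.2 z
    obtain ⟨s, rfl⟩ := Ideal.Quotient.mk_surjective s
    obtain ⟨r, hr⟩ := residue_surjective (φ s)
    refine ⟨r, ?_⟩
    rw [IsScalarTower.algebraMap_apply R (P.Ring ⧸ RingHom.ker φ.toRingHom)]
    congr 1
    rw [IsScalarTower.algebraMap_apply R P.Ring, Ideal.Quotient.algebraMap_eq, Ideal.Quotient.eq,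
      RingHom.mem_ker]
    simp only [AlgHom.toRingHom_eq_coe, RingHom.coe_coe, map_sub, AlgHom.commutes]
    exact sub_eq_zero.mpr hr
  obtain ⟨r⟩ := h P.Ring (RingHom.ker φ.toRingHom) hover hsurj
  have ha : P.HasMap (r P.X) := StandardEtalePair.hasMap_X.map r
  refine ⟨r P.X, by rw [IsRoot, ← coe_aeval_eq_eval]; exact ha.1, ?_⟩
  have h0 : f.eval (r P.X) = 0 := by rw [← coe_aeval_eq_eval]; exact ha.1
  have hgu : IsUnit (k.eval (r P.X)) := by
    have := ha.2
    rw [coe_aeval_eq_eval] at this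
    simp only [P, eval_mul] at this
    exact isUnit_of_mul_isUnit_right this
  have := congrArg (eval (r P.X)) hk
  rw [eval_sub, eval_C, h0, eval_mul, eval_sub, eval_X, eval_C, zero_sub] at this
  have h3 : (r P.X - a₀) * k.eval (r P.X) ∈ maximalIdeal R := this ▸ (maximalIdeal R).neg_mem h₁
  exact (Ideal.mul_unit_mem_iff_mem _ hgu).mp h3

end Groth.Agent.Hensel.Root
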